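import Groth.Agent.RlimCrit.Instances
import Groth.Agent.ModTensor.Sheaf
import Groth.Prelude.Def_CohTop

/-!
# Criteria for an object to be the limit of its truncations
-/

set_option autoImplicit false
set_option linter.style.haveILetI false

universe w u

open CategoryTheory CategoryTheory.Limits Opposite DerivedCategory

noncomputable section

namespace Groth.Agent.RlimCrit

section Ab

variable {C : Type u} [SmallCategory C] {J : GrothendieckTopology C}
  [HasDerivedCategory.{w} (Sheaf J AddCommGrpCat.{u})] (E : DerivedCategory (Sheaf J AddCommGrpCat.{u}))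
  [HasProduct (CohCx.truncTower E)] (B : Set C)
  (hB : ∀ U : C, ∃ (ι : Type u) (Y : ι → C) (f : ∀ i, Y i ⟶ U), Sieve.ofArrows Y f ∈ J U ∧ ∀ i, Y i ∈ B)

include hB in
/-- The criterion for abelian sheaves on a site. -/
theorem isRlimVia_ab
    (h : ∀ (q : ℤ), ∀ W ∈ B, ∀ T : ℕ → Sieve W, (∀ n, T n ∈ J W) →
      ∃ (ι : Type u) (Y : ι → C) (f : ∀ i, Y i ⟶ W), Sieve.ofArrows Y f ∈ J W ∧
      ∀ i, ∃ N, (T N).arrows (f i) ∧ ∀ n : ℕ, N ≤ n → ∀ k : ℕ, q + (n + 1) = k →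
        Subsingleton (CohSite.HU (CohCx.HD E (-((n : ℤ) + 1))) k (Y i))) :
    CohCx.IsRlimVia (CohCx.truncTower E) (CohCx.truncTowerMap E) E (CohCx.toTruncTower E) :=
  isRlimVia_truncTower.{u} isLocGen_ab B hB E h

end Ab

section Mod

variable {C : Type u} [SmallCategory C] {J : GrothendieckTopology C} (O : Sheaf J CommRingCat.{u})
  [HasDerivedCategory.{w} (ModSite.Mod O)] (E : DerivedCategory (ModSite.Mod O))
  [HasProduct (CohCx.truncTower E)] (B : Set C)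
  (hB : ∀ U : C, ∃ (ι : Type u) (Y : ι → C) (f : ∀ i, Y i ⟶ U), Sieve.ofArrows Y f ∈ J U ∧ ∀ i, Y i ∈ B)

include hB in
/-- The criterion for sheaves of modules on a site. -/
theorem isRlimVia_mod
    (h : ∀ (q : ℤ), ∀ W ∈ B, ∀ T : ℕ → Sieve W, (∀ n, T n ∈ J W) →
      ∃ (ι : Type u) (Y : ι → C) (f : ∀ i, Y i ⟶ W), Sieve.ofArrows Y f ∈ J W ∧
      ∀ i, ∃ N, (T N).arrows (f i) ∧ ∀ n : ℕ, N ≤ n → ∀ k : ℕ, q + (n + 1) = k →
        Subsingleton (ModSite.HU O ((DerivedCategory.homologyFunctor (ModSite.Mod O)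
          (-((n : ℤ) + 1))).obj E) k (Y i))) :
    CohCx.IsRlimVia (CohCx.truncTower E) (CohCx.truncTowerMap E) E (CohCx.toTruncTower E) := by
  haveI : IsGrothendieckAbelian.{u} (ModSite.Mod O) := ModTensor.isGrothendieckAbelian_mod O
  haveI : HasExt.{u} (ModSite.Mod O) := inferInstance
  refine isRlimVia_truncTower.{u} (P := modP (ModSite.ringSh O)) (isLocGen_mod _) B hB E ?_
  intro q W hW T hT
  obtain ⟨ι, Y, f, hf, hY⟩ := h q W hW T hT
  refine ⟨ι, Y, f, hf, fun i => ?_⟩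
  obtain ⟨N, hN, hv⟩ := hY i
  exact ⟨N, hN, fun n hn k hk => subsingleton_ext_mod (ModSite.ringSh O) (Y i) _ k (hv n hn k hk)⟩

end Mod

section Families

variable {C : Type u} [SmallCategory C] {J : GrothendieckTopology C}

/-- A covering sieve is refined by a covering family with members in a class covering all objects. -/
theorem exists_family_le (B : Set C)
    (hB : ∀ U : C, ∃ (ι : Type u) (Y : ι → C) (f : ∀ i, Y i ⟶ U), Sieve.ofArrows Y f ∈ J U ∧ ∀ i, Y i ∈ B)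
    {W : C} (T : Sieve W) (hT : T ∈ J W) :
    ∃ (ι : Type u) (Y : ι → C) (f : ∀ i, Y i ⟶ W),
      Sieve.ofArrows Y f ∈ J W ∧ ∀ i, T.arrows (f i) ∧ Y i ∈ B := by
  choose ι Y f hf hY using hB
  refine ⟨Σ p : (Σ V : C, {g : V ⟶ W // T.arrows g}), ι p.1, fun p => Y p.1.1 p.2,
    fun p => f p.1.1 p.2 ≫ p.1.2.1, ?_, fun p => ⟨T.downward_closed p.1.2.2 _, hY _ _⟩⟩
  refine J.transitive hT _ fun V g hg => ?_
  refine J.superset_covering ?_ (hf V)
  intro Z a ha
  obtain ⟨i, r, rfl⟩ := (Sieve.mem_ofArrows_iff _ _ _).1 ha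
  exact (Sieve.mem_ofArrows_iff _ _ _).2 ⟨⟨⟨V, g, hg⟩, i⟩, r, Category.assoc _ _ _⟩

end Families

section Top

open TopologicalSpace

variable {X : TopCat.{u}} [HasDerivedCategory.{w} (CohTop.Ab X)] (E : DerivedCategory (CohTop.Ab X))
  [HasProduct (CohCx.truncTower E)]

/-- The pointwise criterion for abelian sheaves on a space. -/
theorem isRlimVia_top
    (h : ∀ (q : ℤ) (x : X), ∃ N : ℕ, ∀ V : Opens X, x ∈ V → ∃ U : Opens X, x ∈ U ∧ U ≤ V ∧
      ∀ n : ℕ, N ≤ n → ∀ k : ℕ, q + (n + 1) = k →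
        Subsingleton (CohTop.HU (CohCx.HD E (-((n : ℤ) + 1))) k U)) :
    CohCx.IsRlimVia (CohCx.truncTower E) (CohCx.truncTowerMap E) E (CohCx.toTruncTower E) := by
  refine isRlimVia_ab E Set.univ
    (fun U => ⟨PUnit.{u + 1}, fun _ => U, fun _ => 𝟙 U, ?_, fun _ => trivial⟩) ?_
  · exact (Opens.grothendieckTopology X).superset_covering
      (fun V g _ => ⟨U, g, 𝟙 U, ⟨PUnit.unit⟩, Category.comp_id g⟩)
      ((Opens.grothendieckTopology X).top_mem U)
  intro q W _ T hT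
  choose N hN using h q
  have hx : ∀ x : W, ∃ U : Opens X, ∃ hU : U ≤ W, x.1 ∈ U ∧ (T (N x.1)).arrows (homOfLE hU) ∧
      ∀ n : ℕ, N x.1 ≤ n → ∀ k : ℕ, q + (n + 1) = k →
        Subsingleton (CohTop.HU (CohCx.HD E (-((n : ℤ) + 1))) k U) := fun x => by
    obtain ⟨V, f, hf, hxV⟩ := hT (N x.1) x.1 x.2
    obtain ⟨U, hxU, hUV, hv⟩ := hN x.1 V hxV
    exact ⟨U, hUV.trans (leOfHom f), hxU, (T (N x.1)).downward_closed hf (homOfLE hUV), hv⟩
  choose U hU hxU hTU hv using hx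
  refine ⟨W, U, fun x => homOfLE (hU x), ?_, fun x => ⟨N x.1, hTU x, hv x⟩⟩
  intro x hx
  exact ⟨U ⟨x, hx⟩, homOfLE (hU _), Sieve.ofArrows_mk _ _ _, hxU _⟩

end Top

end Groth.Agent.RlimCrit
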