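import Groth.Agent.RlimCrit.Milnor

/-!
# Local classes of cohomology objects in a derived category

For a family of objects `P U` of an abelian category behaving like the free sheaves on the objects
of a site, maps `P U ⟶ H^q X` lift locally to maps `P U[-q] ⟶ X`, and a map `P U[-q] ⟶ X` which is
zero on `H^q` is locally zero.
-/

set_option autoImplicit false
set_option linter.style.haveILetI false

universe w v u v' u'

open CategoryTheory CategoryTheory.Limits DerivedCategory

noncomputable section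

namespace Groth.Agent.RlimCrit

variable {C : Type u'} [Category.{v'} C] (J : GrothendieckTopology C)
  {A : Type u} [Category.{v} A] [Abelian A] (P : C ⥤ A)

/-- `P` behaves like the free sheaves on the objects of the site: morphisms out of `P U` are the
sections over `U` of a separated notion of sections, for which epimorphisms are locally surjective. -/
structure IsLocGen : Prop where
  lift : ∀ {M N : A} (e : M ⟶ N) [Epi e] {U : C} (x : P.obj U ⟶ N),
    ∃ S ∈ J U, ∀ ⦃V : C⦄ (f : V ⟶ U), S.arrows f → ∃ y, y ≫ e = P.map f ≫ x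
  sep : ∀ {M : A} {U : C} (x : P.obj U ⟶ M) (S : Sieve U), S ∈ J U →
    (∀ ⦃V : C⦄ (f : V ⟶ U), S.arrows f → P.map f ≫ x = 0) → x = 0
  det : ∀ {M N : A} (k : M ⟶ N), (∀ (U : C) (x : P.obj U ⟶ M), x ≫ k = 0) → k = 0

variable {J P} in
/-- Separatedness for covering families. -/
theorem IsLocGen.sep_family (hP : IsLocGen J P) {M : A} {U : C} (x : P.obj U ⟶ M) {ι : Type*}
    (Y : ι → C) (f : ∀ i, Y i ⟶ U) (hS : Sieve.ofArrows Y f ∈ J U)
    (h : ∀ i, P.map (f i) ≫ x = 0) : x = 0 := by
  refine hP.sep x _ hS fun V g hg => ?_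
  obtain ⟨i, r, rfl⟩ := (Sieve.mem_ofArrows_iff _ _ _).1 hg
  rw [P.map_comp, Category.assoc, h i, comp_zero]

variable [HasDerivedCategory.{w} A]

/-- An object placed in degree `q`. -/
abbrev sgl (q : ℤ) (M : A) : DerivedCategory A :=
  Q.obj ((HomologicalComplex.single A (ComplexShape.up ℤ) q).obj M)

/-- A morphism placed in degree `q`. -/
abbrev sglMap (q : ℤ) {M N : A} (a : M ⟶ N) : sgl q M ⟶ sgl q N :=
  Q.map ((HomologicalComplex.single A (ComplexShape.up ℤ) q).map a)

/-- The homology of a complex is the homology of its image in the derived category. -/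
def ff (q : ℤ) (K : CochainComplex A ℤ) : K.homology q ≅ (homologyFunctor A q).obj (Q.obj K) :=
  ((homologyFunctorFactors A q).app K).symm

theorem ff_naturality (q : ℤ) {K L : CochainComplex A ℤ} (φ : K ⟶ L) :
    (ff q K).hom ≫ (homologyFunctor A q).map (Q.map φ) =
      HomologicalComplex.homologyMap φ q ≫ (ff q L).hom :=
  ((homologyFunctorFactors A q).inv.naturality φ).symm

/-- The map on `H^q` of a morphism out of an object placed in degree `q`. -/
def cl {q : ℤ} {M : A} {X : DerivedCategory A} (ξ : sgl q M ⟶ X) :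
    M ⟶ (homologyFunctor A q).obj X :=
  (HomologicalComplex.singleObjHomologySelfIso (ComplexShape.up ℤ) q M).inv ≫
    (ff q _).hom ≫ (homologyFunctor A q).map ξ

theorem cl_comp {q : ℤ} {M : A} {X Y : DerivedCategory A} (ξ : sgl q M ⟶ X) (g : X ⟶ Y) :
    cl (ξ ≫ g) = cl ξ ≫ (homologyFunctor A q).map g := by
  simp only [cl, Functor.map_comp, Category.assoc]

theorem cl_zero (q : ℤ) (M : A) (X : DerivedCategory A) : cl (0 : sgl q M ⟶ X) = 0 := by
  rw [cl, Functor.map_zero, comp_zero, comp_zero]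

theorem cl_Q_map {q : ℤ} {M : A} {K : CochainComplex A ℤ}
    (φ : (HomologicalComplex.single A (ComplexShape.up ℤ) q).obj M ⟶ K) :
    cl (Q.map φ) = ((HomologicalComplex.singleObjCyclesSelfIso (ComplexShape.up ℤ) q M).inv ≫
      HomologicalComplex.cyclesMap φ q) ≫ K.homologyπ q ≫ (ff q K).hom := by
  rw [cl, ff_naturality, Category.assoc, ← HomologicalComplex.homologyπ_naturality_assoc,
    HomologicalComplex.singleObjCyclesSelfIso_inv_homologyπ_assoc]

theorem cl_map {q : ℤ} {M M' : A} (a : M' ⟶ M) {X : DerivedCategory A} (ξ : sgl q M ⟶ X) :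
    cl (sglMap q a ≫ ξ) = a ≫ cl ξ := by
  rw [cl, Functor.map_comp, reassoc_of% (ff_naturality q
    ((HomologicalComplex.single A (ComplexShape.up ℤ) q).map a))]
  exact HomologicalComplex.singleObjHomologySelfIso_inv_naturality_assoc
    (c := ComplexShape.up ℤ) (j := q) a _

variable {J P} (hP : IsLocGen J P)

include hP in
/-- Maps to `H^q X` are locally induced by morphisms to `X`. -/
theorem exists_local_class {q : ℤ} {X : DerivedCategory A} {U : C}
    (x : P.obj U ⟶ (homologyFunctor A q).obj X) :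
    ∃ S ∈ J U, ∀ ⦃V : C⦄ (f : V ⟶ U), S.arrows f →
      ∃ ξ : sgl q (P.obj V) ⟶ X, cl ξ = P.map f ≫ x := by
  let K := Q.objPreimage X
  let e : Q.obj K ≅ X := Q.objObjPreimageIso X
  obtain ⟨S, hS, h⟩ := hP.lift (K.homologyπ q)
    (x ≫ (homologyFunctor A q).map e.inv ≫ (ff q K).inv)
  refine ⟨S, hS, fun V f hf => ?_⟩
  obtain ⟨y, hy⟩ := h f hf
  let φ : (HomologicalComplex.single A (ComplexShape.up ℤ) q).obj (P.obj V) ⟶ K :=
    HomologicalComplex.mkHomFromSingle (y ≫ K.iCycles q)
      (fun k _ => by rw [Category.assoc, K.iCycles_d, comp_zero])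
  refine ⟨Q.map φ ≫ e.hom, ?_⟩
  have hφ : (HomologicalComplex.singleObjCyclesSelfIso (ComplexShape.up ℤ) q (P.obj V)).inv ≫
      HomologicalComplex.cyclesMap φ q = y := by
    rw [← cancel_mono (K.iCycles q), Category.assoc, HomologicalComplex.cyclesMap_i,
      HomologicalComplex.singleObjCyclesSelfIso_inv_iCycles_assoc,
      HomologicalComplex.mkHomFromSingle_f, Iso.inv_hom_id_assoc]
  rw [cl_comp, cl_Q_map, hφ, ← Category.assoc y, hy]
  simp only [Category.assoc, Iso.inv_hom_id_assoc]
  rw [← Functor.map_comp, e.inv_hom_id, CategoryTheory.Functor.map_id]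
  simp

include hP in
/-- A morphism out of `P U` placed in degree `q` which is zero on `H^q` is locally zero. -/
theorem exists_local_zero {q : ℤ} {X : DerivedCategory A} {U : C}
    (ξ : sgl q (P.obj U) ⟶ X) (h : cl ξ = 0) :
    ∃ S ∈ J U, ∀ ⦃V : C⦄ (f : V ⟶ U), S.arrows f → sglMap q (P.map f) ≫ ξ = 0 := by
  let e : Q.obj (Q.objPreimage X) ≅ X := Q.objObjPreimageIso X
  obtain ⟨Y, g, s, hs, hfac⟩ := left_fac (ξ ≫ e.inv)
  have hg : Q.map g = ξ ≫ e.inv ≫ Q.map s := by
    rw [← Category.assoc]
    refine Eq.trans ?_ (congrArg (· ≫ Q.map s) hfac).symm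
    rw [Category.assoc, IsIso.inv_hom_id, Category.comp_id]
  have h0 : cl (Q.map g) = 0 := by
    rw [hg, cl_comp, h, zero_comp]
  rw [cl_Q_map, ← Category.assoc, Preadditive.IsIso.comp_right_eq_zero] at h0
  let y : P.obj U ⟶ Y.cycles q :=
    (HomologicalComplex.singleObjCyclesSelfIso (ComplexShape.up ℤ) q (P.obj U)).inv ≫
      HomologicalComplex.cyclesMap g q
  let T := ShortComplex.mk (Y.toCycles (q - 1) q) (Y.homologyπ q) (Y.toCycles_comp_homologyπ _ _)
  have hT : T.Exact := ShortComplex.exact_of_g_is_cokernel _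
    (Y.homologyIsCokernel (q - 1) q (CochainComplex.prev ℤ q))
  haveI : Epi (kernel.lift T.g T.f T.zero) := (T.exact_iff_epi_kernel_lift).1 hT
  obtain ⟨S, hS, hl⟩ := hP.lift (kernel.lift T.g T.f T.zero) (kernel.lift T.g y h0)
  refine ⟨S, hS, fun V f hf => ?_⟩
  obtain ⟨z, hz⟩ := hl f hf
  have hz' : z ≫ Y.toCycles (q - 1) q = P.map f ≫ y := by
    have := congrArg (· ≫ kernel.ι T.g) hz
    simpa [T] using this
  let φ : (HomologicalComplex.single A (ComplexShape.up ℤ) q).obj (P.obj V) ⟶ Y :=
    (HomologicalComplex.single A (ComplexShape.up ℤ) q).map (P.map f) ≫ g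
  let hom : ∀ i j, (ComplexShape.up ℤ).Rel j i →
      (((HomologicalComplex.single A (ComplexShape.up ℤ) q).obj (P.obj V)).X i ⟶ Y.X j) :=
    fun i j hij => if hi : i = q then
      (HomologicalComplex.singleObjXIsoOfEq (ComplexShape.up ℤ) q (P.obj V) i hi).hom ≫ z ≫
        (Y.XIsoOfEq (show j = q - 1 by simp only [ComplexShape.up_Rel] at hij; omega)).inv
      else 0
  have hφ : φ = Homotopy.nullHomotopicMap' hom := by
    refine HomologicalComplex.from_single_hom_ext ?_
    rw [Homotopy.nullHomotopicMap'_f (k₂ := q - 1) (k₀ := q + 1)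
        (show (ComplexShape.up ℤ).Rel (q - 1) q by simp) (show (ComplexShape.up ℤ).Rel q (q + 1) by simp),
      HomologicalComplex.single_obj_d, zero_comp, zero_add]
    show (((HomologicalComplex.single A (ComplexShape.up ℤ) q).map (P.map f)) ≫ g).f q = _
    rw [HomologicalComplex.comp_f, HomologicalComplex.single_map_f_self]
    have hy : z ≫ Y.d (q - 1) q = P.map f ≫ y ≫ Y.iCycles q := by
      rw [← reassoc_of% hz', HomologicalComplex.toCycles_i]
    simp only [hom, dif_pos, Category.assoc]
    rw [show (Y.XIsoOfEq (rfl : q - 1 = q - 1)).inv = 𝟙 (Y.X (q - 1)) from rfl, Category.id_comp, hy]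
    simp [y, HomologicalComplex.singleObjXSelf]
  have h3 : Q.map φ = 0 := by
    rw [hφ]
    exact (Q_map_eq_of_homotopy A (Homotopy.nullHomotopy' hom)).trans (Q.map_zero _ _)
  have h4 : (sglMap q (P.map f) ≫ ξ) ≫ e.inv = 0 := by
    rw [Category.assoc, hfac, ← Category.assoc]
    refine Eq.trans (congrArg (· ≫ inv (Q.map s)) ((Q.map_comp _ _).symm.trans h3)) zero_comp
  rwa [Preadditive.IsIso.comp_right_eq_zero] at h4

end Groth.Agent.RlimCrit
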