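import Groth.Agent.RlimCrit.Vanishing
import Groth.Agent.RlimCrit.Local

/-!
# Morphisms into objects which are bounded below, and towers with eventually constant cohomology
-/

set_option autoImplicit false
set_option linter.style.haveILetI false

universe w' w v u

open CategoryTheory CategoryTheory.Limits DerivedCategory Pretriangulated

noncomputable section

namespace Groth.Agent.RlimCrit

variable {A : Type u} [Category.{v} A] [Abelian A] [HasDerivedCategory.{w} A]

/-- A bounded below object receives no morphism from degree `q` if none of its cohomology objects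
up to degree `q` does. -/
theorem subsingleton_hom_of_forall (M : A) (q : ℤ) : ∀ (l : ℕ) (a : ℤ), q < a + l →
    ∀ (X : DerivedCategory A), X.IsGE a →
      (∀ i, a ≤ i → i ≤ q → Subsingleton
        (sgl q M ⟶ (singleFunctor A i).obj ((homologyFunctor A i).obj X))) →
      Subsingleton (sgl q M ⟶ X) := by
  intro l
  induction l with
  | zero =>
    intro a ha X hX _
    haveI : (sgl q M).IsLE q := inferInstanceAs (((singleFunctor A q).obj M).IsLE q)
    exact subsingleton_hom_of_lt q a (by omega)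
  | succ l ih =>
    intro a ha X hX h
    haveI : (sgl q M).IsLE q := inferInstanceAs (((singleFunctor A q).obj M).IsLE q)
    by_cases haq : q < a
    · exact subsingleton_hom_of_lt q a haq
    let t : Triangulated.TStructure (DerivedCategory A) := TStructure.t
    have hT := t.triangleLTGE_distinguished (a + 1) X
    let X₁ := (t.truncLT (a + 1)).obj X
    let X₃ := (t.truncGE (a + 1)).obj X
    haveI : X₁.IsLE a := t.isLE_truncLT_obj X (a + 1) a
    haveI : X₁.IsGE a := (isGE_iff _ _).2 fun i hi => by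
      haveI := DCohLib.isIso_homology_truncLTι X (a + 1) i (by omega)
      exact (isZero_of_isGE X a i hi).of_iso
        (asIso ((homologyFunctor A i).map ((t.truncLTι (a + 1)).app X)))
    obtain ⟨W, ⟨eW⟩⟩ := exists_iso_singleFunctor_obj_of_isGE_of_isLE X₁ a
    haveI := DCohLib.isIso_homology_truncLTι X (a + 1) a (by omega)
    let eH : W ≅ (homologyFunctor A a).obj X :=
      ((singleFunctorCompHomologyFunctorIso A a).app W).symm ≪≫
        (homologyFunctor A a).mapIso eW.symm ≪≫
          asIso ((homologyFunctor A a).map ((t.truncLTι (a + 1)).app X))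
    haveI := h a le_rfl (by omega)
    haveI : Subsingleton (sgl q M ⟶ X₁) :=
      (eW ≪≫ (singleFunctor A a).mapIso eH).homToEquiv.subsingleton
    haveI : Subsingleton (sgl q M ⟶ X₃) := ih (a + 1) (by omega) X₃ (t.isGE_truncGE_obj X _ _) fun i hi hiq => by
      haveI := DCohLib.isIso_homology_truncGEπ X (a + 1) i hi
      exact @Equiv.subsingleton _ _ ((singleFunctor A i).mapIso
        (asIso ((homologyFunctor A i).map ((t.truncGEπ (a + 1)).app X))).symm).homToEquiv (h i (by omega) hiq)
    refine subsingleton_of_forall_eq 0 fun z => ?_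
    obtain ⟨g, hg⟩ := Triangle.coyoneda_exact₂ _ hT z (Subsingleton.elim (α := (sgl q M ⟶ X₃)) _ _)
    rw [hg, Subsingleton.elim (α := (sgl q M ⟶ X₁)) g 0]
    exact zero_comp

/-- An object placed in degree `b`, suspended, is placed in degree `a` when `a + 1 = b`. -/
def sglShiftIso (M : A) (a b : ℤ) (h : 1 + a = b) : (sgl b M)⟦(1 : ℤ)⟧ ≅ sgl a M :=
  ((singleFunctors A).shiftIso 1 a b h).app M

theorem subsingleton_hom_shift (M : A) (q : ℤ) (Y : DerivedCategory A)
    (h : Subsingleton (sgl (q + 1) M ⟶ Y)) : Subsingleton (sgl q M ⟶ Y⟦(1 : ℤ)⟧) := by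
  haveI : Subsingleton ((sgl (q + 1) M)⟦(1 : ℤ)⟧ ⟶ Y⟦(1 : ℤ)⟧) :=
    ((Functor.FullyFaithful.ofFullyFaithful
      (shiftFunctor (DerivedCategory A) (1 : ℤ))).homEquiv (X := sgl (q + 1) M) (Y := Y)).symm.subsingleton
  exact (sglShiftIso M q (q + 1) (by omega)).symm.homFromEquiv.subsingleton

/-- A map which is an isomorphism on cohomology in degrees `[m, q + 1]` is bijective on morphisms
from degree `q` if the parts of degree `< m` receive no morphisms from degrees `q` and `q + 1`. -/
theorem bijective_of_isIso_range (M : A) (q m : ℤ) {X Y : DerivedCategory A} (g : X ⟶ Y)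
    (hX : ∀ r, q ≤ r → r ≤ q + 1 →
      Subsingleton (sgl r M ⟶ ((TStructure.t (C := A)).truncLT m).obj X))
    (hY : Subsingleton (sgl q M ⟶ ((TStructure.t (C := A)).truncLT m).obj Y))
    (hiso : ∀ i, m ≤ i → i ≤ q + 1 → IsIso ((homologyFunctor A i).map g)) :
    (∀ z : sgl q M ⟶ X, z ≫ g = 0 → z = 0) ∧ ∀ w : sgl q M ⟶ Y, ∃ v, v ≫ g = w := by
  let t : Triangulated.TStructure (DerivedCategory A) := TStructure.t
  let X' := (t.truncGE m).obj X
  let Y' := (t.truncGE m).obj Y
  let g' : X' ⟶ Y' := (t.truncGE m).map g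
  have nat : (t.truncGEπ m).app X ≫ g' = g ≫ (t.truncGEπ m).app Y :=
    ((t.truncGEπ m).naturality g).symm
  have hiso' : ∀ i, i ≤ q + 1 → IsIso ((homologyFunctor A i).map g') := fun i hi => by
    by_cases him : m ≤ i
    · haveI := hiso i him hi
      haveI := DCohLib.isIso_homology_truncGEπ X m i him
      haveI := DCohLib.isIso_homology_truncGEπ Y m i him
      haveI : IsIso ((homologyFunctor A i).map ((t.truncGEπ m).app X) ≫
          (homologyFunctor A i).map g') := by
        rw [← Functor.map_comp, nat, Functor.map_comp]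
        infer_instance
      exact IsIso.of_isIso_comp_left ((homologyFunctor A i).map ((t.truncGEπ m).app X)) _
    · haveI : X'.IsGE m := t.isGE_truncGE_obj X m m
      haveI : Y'.IsGE m := t.isGE_truncGE_obj Y m m
      exact ⟨0, (isZero_of_isGE X' m i (by omega)).eq_of_src _ _,
        (isZero_of_isGE Y' m i (by omega)).eq_of_src _ _⟩
  obtain ⟨F, f, δ, hT⟩ := distinguished_cocone_triangle₁ g'
  haveI : F.IsGE (q + 2) := (isGE_iff _ _).2 fun i hi => by
    haveI := hiso' i (by omega)
    haveI := hiso' (i - 1) (by omega)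
    exact (HomologySequence.exact₁ _ hT (i - 1) i (by omega)).isZero_of_both_zeros
      ((HomologySequence.epi_homologyMap_mor₂_iff _ hT (i - 1) i (by omega)).1
        (inferInstanceAs (Epi ((homologyFunctor A (i - 1)).map g'))))
      ((HomologySequence.mono_homologyMap_mor₂_iff _ hT i).1
        (inferInstanceAs (Mono ((homologyFunctor A i).map g'))))
  haveI hF : ∀ r, r ≤ q + 1 → Subsingleton (sgl r M ⟶ F) := fun r hr => by
    haveI : (sgl r M).IsLE r := inferInstanceAs (((singleFunctor A r).obj M).IsLE r)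
    exact subsingleton_hom_of_lt r (q + 2) (by omega)
  have inj' : ∀ z : sgl q M ⟶ X', z ≫ g' = 0 → z = 0 := fun z hz => by
    obtain ⟨y, hy⟩ := Triangle.coyoneda_exact₂ _ hT z hz
    haveI := hF q (by omega)
    rw [hy, Subsingleton.elim (α := (sgl q M ⟶ F)) y 0]
    exact zero_comp
  have hX' : ∀ w : sgl q M ⟶ X', ∃ v, v ≫ (t.truncGEπ m).app X = w := fun w => by
    haveI := subsingleton_hom_shift M q _ (hX (q + 1) (by omega) le_rfl)
    obtain ⟨v, hv⟩ := Triangle.coyoneda_exact₃ _ (t.triangleLTGE_distinguished m X) w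
      (Subsingleton.elim (α := (sgl q M ⟶ ((t.truncLT m).obj X)⟦(1 : ℤ)⟧)) _ _)
    exact ⟨v, hv.symm⟩
  refine ⟨fun z hz => ?_, fun w => ?_⟩
  · have h1 : z ≫ (t.truncGEπ m).app X = 0 :=
      inj' _ (by rw [Category.assoc, nat, ← Category.assoc, hz, zero_comp])
    obtain ⟨y, hy⟩ := Triangle.coyoneda_exact₂ _ (t.triangleLTGE_distinguished m X) z h1
    haveI := hX q le_rfl (by omega)
    rw [hy, Subsingleton.elim (α := (sgl q M ⟶ (t.truncLT m).obj X)) y 0]
    exact zero_comp
  · haveI := subsingleton_hom_shift M q _ (hF (q + 1) le_rfl)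
    obtain ⟨v', hv'⟩ := Triangle.coyoneda_exact₃ _ hT (w ≫ (t.truncGEπ m).app Y)
      (Subsingleton.elim (α := (sgl q M ⟶ F⟦(1 : ℤ)⟧)) _ _)
    obtain ⟨v, rfl⟩ := hX' v'
    refine ⟨v, sub_eq_zero.1 ?_⟩
    have h2 : (v ≫ g - w) ≫ (t.truncGEπ m).app Y = 0 := by
      rw [Preadditive.sub_comp, Category.assoc, ← nat, sub_eq_zero, ← Category.assoc]
      exact hv'.symm
    obtain ⟨y, hy⟩ := Triangle.coyoneda_exact₂ _ (t.triangleLTGE_distinguished m Y) _ h2
    rw [hy, Subsingleton.elim (α := (sgl q M ⟶ (t.truncLT m).obj Y)) y 0]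
    exact zero_comp

/-- A finite range of eventual conditions holds eventually. -/
theorem exists_uniform (p : ℤ → ℕ → Prop) (h : ∀ i, ∃ N, ∀ n, N ≤ n → p i n) (lo : ℤ) (l : ℕ) :
    ∃ N, ∀ n, N ≤ n → ∀ i, lo ≤ i → i < lo + l → p i n := by
  induction l with
  | zero => exact ⟨0, fun n _ i h1 h2 => by omega⟩
  | succ l ih =>
    obtain ⟨N, hN⟩ := ih
    obtain ⟨N', hN'⟩ := h (lo + l)
    refine ⟨max N N', fun n hn i h1 h2 => ?_⟩
    rcases lt_or_eq_of_le (show i ≤ lo + l by omega) with h3 | rfl
    · exact hN n (le_trans (le_max_left _ _) hn) i h1 h3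
    · exact hN' n (le_trans (le_max_right _ _) hn)

variable [HasExt.{w'} A] (Q : ObjectProperty A)

/-- Vanishing of extensions above degree `d` on objects in `Q` kills morphisms into low truncations. -/
theorem subsingleton_hom_truncLT (M : A) (d : ℕ)
    (h : ∀ F, Q F → ∀ k : ℕ, d < k → Subsingleton (Abelian.Ext.{w'} M F k))
    (X : DerivedCategory A) (a : ℤ) [X.IsGE a] (hX : ∀ i, Q ((homologyFunctor A i).obj X))
    (r m : ℤ) (hm : m + d ≤ r) :
    Subsingleton (sgl r M ⟶ ((TStructure.t (C := A)).truncLT m).obj X) := by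
  let X₁ := ((TStructure.t (C := A)).truncLT m).obj X
  have hGE : X₁.IsGE a := (isGE_iff _ _).2 fun i hi => by
    by_cases him : i < m
    · haveI := DCohLib.isIso_homology_truncLTι X m i him
      exact (isZero_of_isGE X a i hi).of_iso
        (asIso ((homologyFunctor A i).map (((TStructure.t (C := A)).truncLTι m).app X)))
    · haveI : X₁.IsLE (m - 1) := (TStructure.t (C := A)).isLE_truncLT_obj X m (m - 1)
      exact isZero_of_isLE X₁ (m - 1) i (by omega)
  refine subsingleton_hom_of_forall M r (r + 1 - a).toNat a (by omega) X₁ hGE fun i hai hir => ?_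
  by_cases him : i < m
  · haveI := DCohLib.isIso_homology_truncLTι X m i him
    exact @Equiv.subsingleton _ _ ((singleFunctor A i).mapIso (asIso ((homologyFunctor A i).map
      (((TStructure.t (C := A)).truncLTι m).app X)))).homToEquiv
      (subsingleton_hom_single M ((homologyFunctor A i).obj X) r i (r - i).toNat (by omega)
        (h _ (hX i) _ (by omega)))
  · haveI : X₁.IsLE (m - 1) := (TStructure.t (C := A)).isLE_truncLT_obj X m (m - 1)
    have hz : IsZero ((singleFunctor A i).obj ((homologyFunctor A i).obj X₁)) :=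
      (singleFunctor A i).map_isZero (isZero_of_isLE X₁ (m - 1) i (by omega))
    exact ⟨fun f g => hz.eq_of_tgt f g⟩

/-- In a tower with bounded below terms with cohomology in `Q` and eventually constant cohomology,
late transition maps are bijective on morphisms out of objects without higher extensions by `Q`. -/
theorem tower_bijective {K : ℕ → DerivedCategory A} (t : ∀ n, K (n + 1) ⟶ K n)
    (hK : ∀ n, (∀ i, Q ((homologyFunctor A i).obj (K n))) ∧ ∃ a : ℤ, (K n).IsGE a)
    (hconst : ∀ i : ℤ, ∃ N, ∀ n, N ≤ n → IsIso ((homologyFunctor A i).map (t n))) (d : ℕ) (q : ℤ) :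
    ∃ N, ∀ (M : A), (∀ F, Q F → ∀ k : ℕ, d < k → Subsingleton (Abelian.Ext.{w'} M F k)) →
      ∀ n, N ≤ n → (∀ z : sgl q M ⟶ K (n + 1), z ≫ t n = 0 → z = 0) ∧
        (∀ w : sgl q M ⟶ K n, ∃ v, v ≫ t n = w) ∧
        ∀ w : (sgl q M)⟦(1 : ℤ)⟧ ⟶ K n, ∃ v, v ≫ t n = w := by
  obtain ⟨N, hN⟩ := exists_uniform _ hconst (q - d - 2) (d + 4)
  refine ⟨N, fun M hM n hn => ?_⟩
  have hlow : ∀ n r, q - 1 ≤ r →
      Subsingleton (sgl r M ⟶ ((TStructure.t (C := A)).truncLT (q - d - 2)).obj (K n)) := fun n r hr => by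
    obtain ⟨hQ, a, ha⟩ := hK n
    exact subsingleton_hom_truncLT Q M d hM (K n) a hQ r _ (by omega)
  have hb := fun q' (h1 : q - 1 ≤ q') (h2 : q' ≤ q) => bijective_of_isIso_range M q' (q - d - 2) (t n)
    (fun r hr _ => hlow _ r (by omega)) (hlow _ q' h1)
    (fun i hi hi' => hN n hn i hi (by omega))
  refine ⟨(hb q (by omega) le_rfl).1, (hb q (by omega) le_rfl).2, fun w => ?_⟩
  let e := sglShiftIso M (q - 1) q (by omega)
  obtain ⟨v, hv⟩ := (hb (q - 1) le_rfl (by omega)).2 (e.inv ≫ w)
  exact ⟨e.hom ≫ v, by rw [Category.assoc, hv, Iso.hom_inv_id_assoc]⟩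

end Groth.Agent.RlimCrit
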