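import Groth.Agent.RlimCrit.Instances

/-!
# Cohomology on objects from extensions out of free modules
-/

set_option autoImplicit false
set_option linter.style.haveILetI false

universe u

open CategoryTheory CategoryTheory.Limits Opposite

noncomputable section

namespace Groth.Agent.RlimCrit

variable {C : Type u} [SmallCategory C] {J : GrothendieckTopology C} (R : Sheaf J RingCat.{u})

/-- Extensions out of free modules on objects compute cohomology. -/
theorem nonempty_ext_mod_equiv [HasExt.{u} (SheafOfModules.{u} R)] (U : C) (F : SheafOfModules.{u} R)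
    (k : ℕ) : Nonempty (Abelian.Ext.{u} ((modP R).obj U) F k ≃+
      CohSite.HU ((SheafOfModules.toSheaf R).obj F) k U) := by
  have e := SiteBase.extUnitEquiv (G := SheafOfModules.toSheaf R) (X := (abP J).obj U)
    ((modEta R).app U) (modEta_bijective R U) (fun I _ m => by
      haveI : Subsingleton (CohCx.HK (SiteBase.shYoneda J U) ((SheafOfModules.toSheaf R).obj I) (m + 1)) :=
        SiteBase.isTotallyAcyclic_toSheaf_injective I (SiteBase.shYoneda J U) m
      exact (SiteBase.HKYonedaEquiv ((SheafOfModules.toSheaf R).obj I) (m + 1) U).toEquiv.subsingleton)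
    F k
  exact ⟨e⟩

theorem subsingleton_HU_of_ext_mod [HasExt.{u} (SheafOfModules.{u} R)] (U : C)
    (F : SheafOfModules.{u} R) (k : ℕ) (h : Subsingleton (Abelian.Ext.{u} ((modP R).obj U) F k)) :
    Subsingleton (CohSite.HU ((SheafOfModules.toSheaf R).obj F) k U) := by
  obtain ⟨e⟩ := nonempty_ext_mod_equiv R U F k
  exact e.symm.toEquiv.subsingleton

end Groth.Agent.RlimCrit
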