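import Mathlib
import Groth.Agent.DCohLib.Ghost

/-!
# Morphisms between objects placed in one degree, and fibres of truncation maps
-/

set_option autoImplicit false
set_option linter.style.haveILetI false

universe w' w v u

open CategoryTheory CategoryTheory.Limits DerivedCategory Pretriangulated

noncomputable section

namespace Groth.Agent.RlimCrit

variable {A : Type u} [Category.{v} A] [Abelian A] [HasDerivedCategory.{w} A]

/-- No morphisms from degree `q` to a higher degree. -/
theorem subsingleton_hom_of_lt {X Y : DerivedCategory A} (q j : ℤ) (h : q < j) [X.IsLE q]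
    [Y.IsGE j] : Subsingleton (X ⟶ Y) :=
  subsingleton_of_forall_eq 0 fun f =>
    (TStructure.t (C := A)).zero_of_isLE_of_isGE f q j h inferInstance inferInstance

variable [HasExt.{w'} A]

/-- Morphisms between objects placed in one degree are extensions. -/
theorem subsingleton_hom_single (M N : A) (q j : ℤ) (k : ℕ) (hk : q = j + k)
    (h : Subsingleton (Abelian.Ext.{w'} M N k)) :
    Subsingleton ((singleFunctor A q).obj M ⟶ (singleFunctor A j).obj N) := by
  let M₀ := (singleFunctor A 0).obj M
  let N₀ := (singleFunctor A 0).obj N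
  let eM : M₀⟦-q⟧ ≅ (singleFunctor A q).obj M :=
    ((singleFunctors A).shiftIso (-q) q 0 (by omega)).app M
  let eN : (singleFunctor A j).obj N ≅ (N₀⟦(k : ℤ)⟧)⟦-q⟧ :=
    (((singleFunctors A).shiftIso (-j) j 0 (by omega)).app N).symm ≪≫
      (shiftFunctorAdd' (DerivedCategory A) (k : ℤ) (-q) (-j) (by omega)).app N₀
  haveI : Subsingleton (M₀ ⟶ N₀⟦(k : ℤ)⟧) :=
    (Abelian.Ext.homEquiv (C := A) (X := M) (Y := N) (n := k)).symm.subsingleton
  haveI : Subsingleton (M₀⟦-q⟧ ⟶ (N₀⟦(k : ℤ)⟧)⟦-q⟧) :=
    ((Functor.FullyFaithful.ofFullyFaithful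
      (shiftFunctor (DerivedCategory A) (-q))).homEquiv (X := M₀) (Y := N₀⟦(k : ℤ)⟧)).symm.subsingleton
  exact (eM.homCongr eN.symm).symm.subsingleton

omit [HasExt.{w'} A] in
/-- A tower map which is an isomorphism on cohomology outside degree `j`, whose source has no
cohomology below `j` and whose target has none up to `j`, has fibre placed in degree `j`. -/
theorem exists_fibre_iso_single {X Y Z : DerivedCategory A} (f : X ⟶ Y) (g : Y ⟶ Z) (δ : Z ⟶ X⟦(1 : ℤ)⟧)
    (hT : Triangle.mk f g δ ∈ distTriang _) (j : ℤ) [Y.IsGE j] [Z.IsGE (j + 1)]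
    (hiso : ∀ i, j < i → IsIso ((homologyFunctor A i).map g)) :
    ∃ W : A, Nonempty (X ≅ (singleFunctor A j).obj W) ∧
      Nonempty (W ≅ (homologyFunctor A j).obj Y) := by
  have hepi : ∀ i, i ≠ j → Epi ((homologyFunctor A i).map g) := fun i hi => by
    rcases lt_or_gt_of_ne hi with h | h
    · exact ⟨fun a b _ => (isZero_of_isGE Z (j + 1) i (by omega)).eq_of_src a b⟩
    · haveI := hiso i h
      infer_instance
  have hmono : ∀ i, i ≠ j → Mono ((homologyFunctor A i).map g) := fun i hi => by
    rcases lt_or_gt_of_ne hi with h | h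
    · exact ⟨fun a b _ => (isZero_of_isGE Y j i h).eq_of_tgt a b⟩
    · haveI := hiso i h
      infer_instance
  have hδ : ∀ n₀ n₁ (h : n₀ + 1 = n₁), n₁ ≠ j →
      HomologySequence.δ (Triangle.mk f g δ) n₀ n₁ h = 0 := fun n₀ n₁ h hn => by
    haveI : Epi ((homologyFunctor A n₀).map (Triangle.mk f g δ).mor₂) := by
      by_cases h0 : n₀ = j
      · exact ⟨fun a b _ => (isZero_of_isGE Z (j + 1) n₀ (by omega)).eq_of_src a b⟩
      · exact hepi n₀ h0
    exact (HomologySequence.epi_homologyMap_mor₂_iff _ hT n₀ n₁ h).1 inferInstance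
  have hzero : ∀ i, i ≠ j → IsZero ((homologyFunctor A i).obj X) := fun i hi => by
    haveI := hmono i hi
    exact (HomologySequence.exact₁ _ hT (i - 1) i (by omega)).isZero_of_both_zeros
      (hδ (i - 1) i (by omega) hi) ((HomologySequence.mono_homologyMap_mor₂_iff _ hT i).1
        (inferInstanceAs (Mono ((homologyFunctor A i).map g))))
  haveI : X.IsGE j := (isGE_iff _ _).2 fun i hi => hzero i (by omega)
  haveI : X.IsLE j := (isLE_iff _ _).2 fun i hi => hzero i (by omega)
  obtain ⟨W, ⟨e⟩⟩ := exists_iso_singleFunctor_obj_of_isGE_of_isLE X j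
  refine ⟨W, ⟨e⟩, ⟨?_⟩⟩
  haveI : Mono ((homologyFunctor A j).map f) :=
    (HomologySequence.mono_homologyMap_mor₁_iff _ hT (j - 1) j (by omega)).2
      ((isZero_of_isGE Z (j + 1) (j - 1) (by omega)).eq_of_src _ _)
  haveI : Epi ((homologyFunctor A j).map f) :=
    (HomologySequence.epi_homologyMap_mor₁_iff _ hT j).2
      ((isZero_of_isGE Z (j + 1) j (by omega)).eq_of_tgt _ _)
  haveI := isIso_of_mono_of_epi ((homologyFunctor A j).map f)
  exact ((singleFunctorCompHomologyFunctorIso A j).app W).symm ≪≫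
    (homologyFunctor A j).mapIso e.symm ≪≫ asIso ((homologyFunctor A j).map f)

end Groth.Agent.RlimCrit
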