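import Groth.Agent.RlimCrit.Local
import Groth.Agent.RlimCrit.Vanishing

/-!
# Cohomology of derived limits and the limit of the truncations
-/

set_option autoImplicit false
set_option linter.style.haveILetI false

universe w' w v' u' v u

open CategoryTheory CategoryTheory.Limits DerivedCategory Pretriangulated

noncomputable section

namespace Groth.Agent.RlimCrit

section General

variable {C : Type u'} [Category.{v'} C] {J : GrothendieckTopology C}
  {A : Type u} [Category.{v} A] [Abelian A] [HasDerivedCategory.{w} A] {P : C ⥤ A}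
  (hP : IsLocGen J P) (B : Set C)
  (hB : ∀ U : C, ∃ (ι : Type v') (Y : ι → C) (f : ∀ i, Y i ⟶ U),
    Sieve.ofArrows Y f ∈ J U ∧ ∀ i, Y i ∈ B)
  {K : ℕ → DerivedCategory A} {t : ∀ n, K (n + 1) ⟶ K n} [HasProduct K]
  {L : DerivedCategory A} {a : ∀ n, L ⟶ K n} (hL : CohCx.IsRlimVia K t L a)
  (q : ℤ) (n₀ : ℕ) (hiso : ∀ n, n₀ ≤ n → IsIso ((homologyFunctor A q).map (t n)))

include hP hB hL hiso in
/-- `H^q` of a derived limit injects into a stable term. -/
theorem mono_homology_of_isRlimVia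
    (h : ∀ W ∈ B, ∀ T : ℕ → Sieve W, (∀ n, T n ∈ J W) →
      ∃ (ι : Type v') (Y : ι → C) (f : ∀ i, Y i ⟶ W), Sieve.ofArrows Y f ∈ J W ∧
      ∀ i, ∃ N, (T N).arrows (f i) ∧
        (∀ n, N ≤ n → ∀ z : sgl q (P.obj (Y i)) ⟶ K (n + 1), z ≫ t n = 0 → z = 0) ∧
        ∀ n, N ≤ n → ∀ w : (sgl q (P.obj (Y i)))⟦(1 : ℤ)⟧ ⟶ K n, ∃ v, v ≫ t n = w) :
    Mono ((homologyFunctor A q).map (a n₀)) := by
  have hc := compat_of_isRlimVia hL
  suffices key : ∀ (U : C) (x : P.obj U ⟶ (homologyFunctor A q).obj L),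
      x ≫ (homologyFunctor A q).map (a n₀) = 0 → x = 0 by
    refine Preadditive.mono_of_cancel_zero _ fun {M} k hk => ?_
    exact hP.det k fun U x => key U _ (by rw [Category.assoc, hk, comp_zero])
  intro U x hx
  obtain ⟨S, hS, hl⟩ := exists_local_class hP x
  refine hP.sep x S hS fun V f hf => ?_
  obtain ⟨ξ, hξ⟩ := hl f hf
  obtain ⟨ι, W, g, hg, hW⟩ := hB V
  refine hP.sep_family _ W g hg fun l => ?_
  have hm : ∀ m, n₀ ≤ m → x ≫ (homologyFunctor A q).map (a m) = 0 := fun m hm => by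
    induction m, hm using Nat.le_induction with
    | base => exact hx
    | succ m hm ih =>
      haveI := hiso m hm
      rw [← cancel_mono ((homologyFunctor A q).map (t m)), zero_comp, Category.assoc,
        ← Functor.map_comp, hc]
      exact ih
  let ξ' : sgl q (P.obj (W l)) ⟶ L := sglMap q (P.map (g l)) ≫ ξ
  have hz : ∀ n, cl (ξ' ≫ a (max n n₀)) = 0 := fun n => by
    rw [cl_comp, cl_map, hξ, Category.assoc, Category.assoc, hm _ (le_max_right _ _), comp_zero,
      comp_zero]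
  choose T hT hT' using fun n => exists_local_zero hP (ξ' ≫ a (max n n₀)) (hz n)
  obtain ⟨κ, Y, e, he, hY⟩ := h (W l) (hW l) T hT
  refine hP.sep_family _ Y e he fun i => ?_
  obtain ⟨N, hN, hinj, hsurj⟩ := hY i
  have h0 : sglMap q (P.map (e i)) ≫ ξ' = 0 :=
    eq_zero_of_isRlimVia hL (max N n₀) (fun n hn => hinj n (le_trans (le_max_left _ _) hn))
      (fun n hn => hsurj n (le_trans (le_max_left _ _) hn)) _
      (by rw [Category.assoc]; exact hT' N (e i) hN)
  have := congrArg cl h0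
  rwa [cl_map, cl_zero, cl_map, hξ] at this

include hP hB hL hiso in
/-- `H^q` of a derived limit surjects onto a stable term. -/
theorem epi_homology_of_isRlimVia
    (h : ∀ W ∈ B, ∀ T : ℕ → Sieve W, (∀ n, T n ∈ J W) →
      ∃ (ι : Type v') (Y : ι → C) (f : ∀ i, Y i ⟶ W), Sieve.ofArrows Y f ∈ J W ∧
      ∀ i, ∃ N, (T N).arrows (f i) ∧
        ∀ n, N ≤ n → ∀ w : sgl q (P.obj (Y i)) ⟶ K n, ∃ v, v ≫ t n = w) :
    Epi ((homologyFunctor A q).map (a n₀)) := by
  have hc := compat_of_isRlimVia hL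
  refine Preadditive.epi_of_cancel_zero _ fun {M} k hk => ?_
  refine hP.det k fun U y => ?_
  obtain ⟨ι, W, g, hg, hW⟩ := hB U
  refine hP.sep_family _ W g hg fun l => ?_
  let y' : P.obj (W l) ⟶ (homologyFunctor A q).obj (K n₀) := P.map (g l) ≫ y
  rw [← Category.assoc]
  change y' ≫ k = 0
  have hz : ∀ m, n₀ ≤ m → ∃ z : P.obj (W l) ⟶ (homologyFunctor A q).obj (K m),
      ∀ {Q' : A} (s : Q' ⟶ P.obj (W l)) (ξ : Q' ⟶ (homologyFunctor A q).obj L),
        s ≫ z = ξ ≫ (homologyFunctor A q).map (a m) →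
        s ≫ y' = ξ ≫ (homologyFunctor A q).map (a n₀) := fun m hm => by
    induction m, hm using Nat.le_induction with
    | base => exact ⟨y', fun _ _ h => h⟩
    | succ m hm ih =>
      obtain ⟨z, hz⟩ := ih
      haveI := hiso m hm
      refine ⟨z ≫ inv ((homologyFunctor A q).map (t m)), fun s ξ h => hz s ξ ?_⟩
      have := congrArg (· ≫ (homologyFunctor A q).map (t m)) h
      simpa [← Functor.map_comp, hc] using this
  choose z hz using hz
  choose T hT hT' using fun n => exists_local_class hP (z (max n n₀) (le_max_right _ _))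
  obtain ⟨κ, Y, e, he, hY⟩ := h (W l) (hW l) T hT
  refine hP.sep_family _ Y e he fun i => ?_
  obtain ⟨N, hN, hsurj⟩ := hY i
  obtain ⟨w, hw⟩ := hT' N (e i) hN
  obtain ⟨ξ, hξ⟩ := exists_lift_of_isRlimVia hL (max N n₀)
    (fun n hn => hsurj n (le_trans (le_max_left _ _) hn)) w
  have h2 := hz (max N n₀) (le_max_right _ _) (P.map (e i)) (cl ξ) (by rw [← hw, ← hξ, cl_comp])
  rw [← Category.assoc, h2, Category.assoc, hk, comp_zero]

end General

section Truncations

variable {C : Type u'} [Category.{v'} C] {J : GrothendieckTopology C}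
  {A : Type (u + 1)} [Category.{u} A] [Abelian A] [HasDerivedCategory.{w} A] [HasExt.{w'} A]
  {P : C ⥤ A} (hP : IsLocGen J P) (B : Set C)
  (hB : ∀ U : C, ∃ (ι : Type v') (Y : ι → C) (f : ∀ i, Y i ⟶ U),
    Sieve.ofArrows Y f ∈ J U ∧ ∀ i, Y i ∈ B)
  (E : DerivedCategory A) [HasProduct (CohCx.truncTower E)]

omit [HasExt.{w'} A] [HasProduct (CohCx.truncTower E)] in
theorem isIso_homology_truncTowerMap (n : ℕ) (i : ℤ) (hi : -(n : ℤ) ≤ i) :
    IsIso ((homologyFunctor A i).map (CohCx.truncTowerMap E n)) := by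
  haveI := DCohLib.isIso_homology_truncGEπ E (-(n : ℤ)) i hi
  haveI := DCohLib.isIso_homology_truncGEπ E (-((n + 1 : ℕ) : ℤ)) i (by omega)
  haveI : IsIso ((homologyFunctor A i).map
      ((TStructure.t.truncGEπ (-((n + 1 : ℕ) : ℤ))).app E) ≫
      (homologyFunctor A i).map (CohCx.truncTowerMap E n)) := by
    rw [← Functor.map_comp, TStructure.t.π_natTransTruncGEOfLE_app]
    infer_instance
  exact IsIso.of_isIso_comp_left ((homologyFunctor A i).map
    ((TStructure.t.truncGEπ (-((n + 1 : ℕ) : ℤ))).app E)) _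

omit [HasProduct (CohCx.truncTower E)] in
theorem tower_inj_surj (M : A) (q : ℤ) (n : ℕ)
    (h : ∀ k : ℕ, q + (n + 1) = k → Subsingleton
      (Abelian.Ext.{w'} M ((homologyFunctor A (-((n : ℤ) + 1))).obj E) k)) :
    (∀ z : sgl q M ⟶ CohCx.truncTower E (n + 1), z ≫ CohCx.truncTowerMap E n = 0 → z = 0) ∧
      ∀ w : (sgl q M)⟦(1 : ℤ)⟧ ⟶ CohCx.truncTower E n, ∃ v, v ≫ CohCx.truncTowerMap E n = w := by
  obtain ⟨X, f, δ, hT⟩ := distinguished_cocone_triangle₁ (CohCx.truncTowerMap E n)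
  let j : ℤ := -((n : ℤ) + 1)
  haveI : (CohCx.truncTower E (n + 1)).IsGE j := TStructure.t.isGE_truncGE_obj E _ j (by omega)
  haveI : (CohCx.truncTower E n).IsGE (j + 1) := TStructure.t.isGE_truncGE_obj E _ (j + 1) (by omega)
  obtain ⟨W, ⟨eX⟩, ⟨eW⟩⟩ := exists_fibre_iso_single f (CohCx.truncTowerMap E n) δ hT j
    fun i hi => isIso_homology_truncTowerMap E n i (by omega)
  haveI : IsIso ((homologyFunctor A j).map ((TStructure.t.truncGEπ (-((n + 1 : ℕ) : ℤ))).app E)) :=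
    DCohLib.isIso_homology_truncGEπ E _ j (by omega)
  let eH : W ≅ (homologyFunctor A j).obj E := eW ≪≫
    (asIso ((homologyFunctor A j).map ((TStructure.t.truncGEπ (-((n + 1 : ℕ) : ℤ))).app E))).symm
  let e : X ≅ (singleFunctor A j).obj ((homologyFunctor A j).obj E) :=
    eX ≪≫ (singleFunctor A j).mapIso eH
  haveI hs : Subsingleton (sgl q M ⟶ (singleFunctor A j).obj ((homologyFunctor A j).obj E)) := by
    by_cases hj : j ≤ q
    · exact subsingleton_hom_single M _ q j (q - j).toNat (by omega) (h _ (by omega))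
    · haveI : (sgl q M).IsLE q := inferInstanceAs (((singleFunctor A q).obj M).IsLE q)
      exact subsingleton_hom_of_lt q j (by omega)
  haveI : Subsingleton (sgl q M ⟶ X) := e.homToEquiv.subsingleton
  refine ⟨fun z hz => ?_, fun w => ?_⟩
  · obtain ⟨z', hz'⟩ := Triangle.coyoneda_exact₂ _ hT z hz
    rw [Subsingleton.elim (α := (sgl q M ⟶ X)) z' 0] at hz'
    exact hz'.trans zero_comp
  · haveI : Subsingleton ((sgl q M)⟦(1 : ℤ)⟧ ⟶ X⟦(1 : ℤ)⟧) :=
      ((Functor.FullyFaithful.ofFullyFaithful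
        (shiftFunctor (DerivedCategory A) (1 : ℤ))).homEquiv (X := sgl q M) (Y := X)).symm.subsingleton
    obtain ⟨v, hv⟩ := Triangle.coyoneda_exact₃ _ hT w (Subsingleton.elim (α := (_ ⟶ X⟦(1 : ℤ)⟧)) _ _)
    exact ⟨v, hv.symm⟩

include hP hB in
/-- Under the vanishing hypothesis, an object is the derived limit of its truncations. -/
theorem isRlimVia_truncTower
    (h : ∀ (q : ℤ), ∀ W ∈ B, ∀ T : ℕ → Sieve W, (∀ n, T n ∈ J W) →
      ∃ (ι : Type v') (Y : ι → C) (f : ∀ i, Y i ⟶ W), Sieve.ofArrows Y f ∈ J W ∧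
      ∀ i, ∃ N, (T N).arrows (f i) ∧ ∀ n : ℕ, N ≤ n → ∀ k : ℕ, q + (n + 1) = k → Subsingleton
        (Abelian.Ext.{w'} (P.obj (Y i)) ((homologyFunctor A (-((n : ℤ) + 1))).obj E) k)) :
    CohCx.IsRlimVia (CohCx.truncTower E) (CohCx.truncTowerMap E) E (CohCx.toTruncTower E) := by
  let σ : ∏ᶜ CohCx.truncTower E ⟶ ∏ᶜ CohCx.truncTower E :=
    Pi.lift fun n => Pi.π _ n - Pi.π _ (n + 1) ≫ CohCx.truncTowerMap E n
  obtain ⟨L, i, c, hT⟩ := distinguished_cocone_triangle₁ σ
  let a : ∀ n, L ⟶ CohCx.truncTower E n := fun n => i ≫ Pi.π _ n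
  have hi : Pi.lift a = i := Pi.hom_ext _ _ fun n => Pi.lift_π _ _
  have hL : CohCx.IsRlimVia (CohCx.truncTower E) (CohCx.truncTowerMap E) L a :=
    ⟨c, by rw [hi]; exact hT⟩
  have hE : ∀ n, CohCx.toTruncTower E (n + 1) ≫ CohCx.truncTowerMap E n = CohCx.toTruncTower E n :=
    fun n => TStructure.t.π_natTransTruncGEOfLE_app _ _ _ E
  obtain ⟨φ, hφ⟩ : ∃ φ : E ⟶ L, Pi.lift (CohCx.toTruncTower E) = φ ≫ i :=
    Triangle.coyoneda_exact₂ _ hT (Pi.lift (CohCx.toTruncTower E)) (Pi.hom_ext _ _ fun n => by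
      show (Pi.lift (CohCx.toTruncTower E) ≫ σ) ≫ Pi.π _ n = _
      rw [Category.assoc, Pi.lift_π, Preadditive.comp_sub, Pi.lift_π, Pi.lift_π_assoc]
      exact (sub_eq_zero.2 (hE n).symm).trans zero_comp.symm)
  have hφa : ∀ n, φ ≫ a n = CohCx.toTruncTower E n := fun n => by
    rw [← Category.assoc, ← hφ, Pi.lift_π]
  haveI hiφ : IsIso φ := by
    rw [DerivedCategory.isIso_iff]
    intro q
    let n₀ := (-q).toNat
    have hiso : ∀ n, n₀ ≤ n → IsIso ((homologyFunctor A q).map (CohCx.truncTowerMap E n)) :=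
      fun n hn => isIso_homology_truncTowerMap E n q (by omega)
    haveI : IsIso ((homologyFunctor A q).map φ ≫ (homologyFunctor A q).map (a n₀)) := by
      rw [← Functor.map_comp, hφa]
      exact DCohLib.isIso_homology_truncGEπ E _ q (by omega)
    haveI : Epi ((homologyFunctor A q).map (a n₀)) := epi_of_epi ((homologyFunctor A q).map φ) _
    haveI := mono_homology_of_isRlimVia hP B hB hL q n₀ hiso fun W hW T hT => by
      obtain ⟨ι, Y, f, hf, hY⟩ := h q W hW T hT
      refine ⟨ι, Y, f, hf, fun l => ?_⟩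
      obtain ⟨N, hN, hv⟩ := hY l
      exact ⟨N, hN, fun n hn => (tower_inj_surj E _ q n (hv n hn)).1,
        fun n hn => (tower_inj_surj E _ q n (hv n hn)).2⟩
    haveI := isIso_of_mono_of_epi ((homologyFunctor A q).map (a n₀))
    exact IsIso.of_isIso_comp_right _ ((homologyFunctor A q).map (a n₀))
  have hdist : ∃ c' : ∏ᶜ CohCx.truncTower E ⟶ E⟦(1 : ℤ)⟧, c' ≫ φ⟦(1 : ℤ)⟧' = c :=
    ⟨c ≫ (inv φ)⟦(1 : ℤ)⟧', by rw [Category.assoc, ← Functor.map_comp, IsIso.inv_hom_id,
      CategoryTheory.Functor.map_id, Category.comp_id]⟩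
  obtain ⟨c', hc'⟩ := hdist
  refine ⟨c', isomorphic_distinguished _ hT _ ?_⟩
  refine Triangle.isoMk _ _ (@asIso _ _ _ _ φ hiφ) (Iso.refl _) (Iso.refl _) ?_ ?_ ?_
  · exact (Category.comp_id _).trans hφ
  · exact (Category.comp_id _).trans (Category.id_comp _).symm
  · exact hc'.trans (Category.id_comp _).symm

end Truncations

end Groth.Agent.RlimCrit
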