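import Groth.Agent.RlimCrit.Bounded
import Groth.Agent.RlimCrit.Criterion

/-!
# Hypercohomology of objects with acyclic cohomology objects
-/

set_option autoImplicit false
set_option linter.style.haveILetI false

universe w' w v u

open CategoryTheory CategoryTheory.Limits DerivedCategory Pretriangulated

noncomputable section

namespace Groth.Agent.RlimCrit

section General

variable {A : Type u} [Category.{v} A] [Abelian A] [HasDerivedCategory.{w} A]

theorem cl_sub {q : ℤ} {M : A} {X : DerivedCategory A} (ξ ξ' : sgl q M ⟶ X) :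
    cl (ξ - ξ') = cl ξ - cl ξ' := by
  rw [cl, cl, cl, Functor.map_sub, Preadditive.comp_sub, Preadditive.comp_sub]

theorem homology_map_eq_zero_of_cl {q : ℤ} {M : A} {X : DerivedCategory A} (ξ : sgl q M ⟶ X)
    (h : cl ξ = 0) : (homologyFunctor A q).map ξ = 0 := by
  have h' : ((HomologicalComplex.singleObjHomologySelfIso (ComplexShape.up ℤ) q M).inv ≫
      (ff q _).hom) ≫ (homologyFunctor A q).map ξ = 0 := (Category.assoc _ _ _).trans h
  rwa [Preadditive.IsIso.comp_left_eq_zero] at h'

theorem isIso_cl {q : ℤ} {M : A} {X : DerivedCategory A} (ξ : sgl q M ⟶ X) [IsIso ξ] :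
    IsIso (cl ξ) := by
  unfold cl
  infer_instance

variable [HasExt.{w'} A]

/-- For a bounded below object with `M`-acyclic cohomology, morphisms from `M` in degree `q` are
morphisms to `H^q`. -/
theorem cl_bijective_of_isGE (M : A) (q : ℤ) (X : DerivedCategory A) (a : ℤ) [X.IsGE a]
    (hv : ∀ (i : ℤ) (k : ℕ), 0 < k →
      Subsingleton (Abelian.Ext.{w'} M ((homologyFunctor A i).obj X) k)) :
    Function.Bijective (cl : (sgl q M ⟶ X) → _) := by
  let t : Triangulated.TStructure (DerivedCategory A) := TStructure.t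
  let X' := (t.truncGE q).obj X
  haveI : X'.IsGE q := t.isGE_truncGE_obj X q q
  haveI : (sgl q M).IsLE q := inferInstanceAs (((singleFunctor A q).obj M).IsLE q)
  have hlow : ∀ r, q ≤ r → Subsingleton (sgl r M ⟶ (t.truncLT q).obj X) := fun r hr =>
    subsingleton_hom_truncLT (fun F => ∀ k : ℕ, 0 < k → Subsingleton (Abelian.Ext.{w'} M F k))
      M 0 (fun F hF => hF) X a hv r q (by omega)
  haveI := DCohLib.isIso_homology_truncGEπ X q q le_rfl
  constructor
  · intro ξ ξ' h
    refine sub_eq_zero.1 ?_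
    have h0 : cl (ξ - ξ') = 0 := by rw [cl_sub, h, sub_self]
    have h1 : (ξ - ξ') ≫ (t.truncGEπ q).app X = 0 := DCohLib.zero_of_homology_zero q _ (by
      rw [Functor.map_comp, homology_map_eq_zero_of_cl _ h0, zero_comp])
    obtain ⟨g, hg⟩ := Triangle.coyoneda_exact₂ _ (t.triangleLTGE_distinguished q X) _ h1
    haveI := hlow q le_rfl
    rw [hg, Subsingleton.elim (α := (sgl q M ⟶ (t.truncLT q).obj X)) g 0]
    exact zero_comp
  · intro x
    let Y := (t.truncLT (q + 1)).obj X'
    haveI : Y.IsLE q := t.isLE_truncLT_obj X' (q + 1) q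
    haveI : Y.IsGE q := (isGE_iff _ _).2 fun i hi => by
      haveI := DCohLib.isIso_homology_truncLTι X' (q + 1) i (by omega)
      exact (isZero_of_isGE X' q i hi).of_iso
        (asIso ((homologyFunctor A i).map ((t.truncLTι (q + 1)).app X')))
    obtain ⟨W, ⟨e⟩⟩ := exists_iso_singleFunctor_obj_of_isGE_of_isLE Y q
    let e' : sgl q W ≅ Y := e.symm
    haveI := isIso_cl e'.hom
    haveI := DCohLib.isIso_homology_truncLTι X' (q + 1) q (by omega)
    let c : W ⟶ (homologyFunctor A q).obj X' :=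
      cl (e'.hom ≫ (t.truncLTι (q + 1)).app X')
    haveI : IsIso c := by
      show IsIso (cl _)
      rw [cl_comp]
      infer_instance
    let ξ₁ : sgl q M ⟶ X' :=
      sglMap q (x ≫ (homologyFunctor A q).map ((t.truncGEπ q).app X) ≫ inv c) ≫
        e'.hom ≫ (t.truncLTι (q + 1)).app X'
    have h₁ : cl ξ₁ = x ≫ (homologyFunctor A q).map ((t.truncGEπ q).app X) := by
      rw [cl_map]
      show (x ≫ _ ≫ inv c) ≫ c = _
      rw [Category.assoc, Category.assoc, IsIso.inv_hom_id, Category.comp_id]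
    haveI := subsingleton_hom_shift M q _ (hlow (q + 1) (by omega))
    obtain ⟨ξ, hξ⟩ := Triangle.coyoneda_exact₃ _ (t.triangleLTGE_distinguished q X) ξ₁
      (Subsingleton.elim (α := (sgl q M ⟶ ((t.truncLT q).obj X)⟦(1 : ℤ)⟧)) _ _)
    refine ⟨ξ, ?_⟩
    rw [← cancel_mono ((homologyFunctor A q).map ((t.truncGEπ q).app X)), ← cl_comp, ← h₁]
    exact congrArg cl hξ.symm

end General

section Rlim

variable {A : Type (u + 1)} [Category.{u} A] [Abelian A] [HasDerivedCategory.{w} A] [HasExt.{w'} A]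

/-- For an object which is the limit of its truncations and has `M`-acyclic cohomology, morphisms
from `M` in degree `q` are morphisms to `H^q`. -/
theorem cl_bijective (M : A) (q : ℤ) (X : DerivedCategory A) [HasProduct (CohCx.truncTower X)]
    (hX : CohCx.IsRlimVia (CohCx.truncTower X) (CohCx.truncTowerMap X) X (CohCx.toTruncTower X))
    (hv : ∀ (i : ℤ) (k : ℕ), 0 < k →
      Subsingleton (Abelian.Ext.{w'} M ((homologyFunctor A i).obj X) k)) :
    Function.Bijective (cl : (sgl q M ⟶ X) → _) := by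
  let N : ℕ := (-q).toNat + 2
  have hb : ∀ (n : ℕ) (r : ℤ),
      Function.Bijective (cl : (sgl r M ⟶ CohCx.truncTower X n) → _) := fun n r => by
    haveI : (CohCx.truncTower X n).IsGE (-(n : ℤ)) :=
      TStructure.t.isGE_truncGE_obj X _ _ le_rfl
    refine cl_bijective_of_isGE M r _ (-(n : ℤ)) fun i k hk => ?_
    by_cases hi : -(n : ℤ) ≤ i
    · haveI := DCohLib.isIso_homology_truncGEπ X (-(n : ℤ)) i hi
      obtain ⟨k, rfl⟩ : ∃ k', k = k' + 1 := ⟨k - 1, by omega⟩
      haveI := hv i (k + 1) hk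
      refine subsingleton_of_forall_eq 0 fun z => ?_
      let e : (homologyFunctor A i).obj X ≅ (homologyFunctor A i).obj (CohCx.truncTower X n) :=
        asIso ((homologyFunctor A i).map ((TStructure.t.truncGEπ (-(n : ℤ))).app X))
      have h : (z.comp (Abelian.Ext.mk₀ e.inv) (add_zero _)).comp (Abelian.Ext.mk₀ e.hom) (add_zero _) = z := by
        simp
      rw [← h, Subsingleton.elim (z.comp (Abelian.Ext.mk₀ e.inv) (add_zero _)) 0]
      simp
    · have hz := isZero_of_isGE (CohCx.truncTower X n) (-(n : ℤ)) i (by omega)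
      refine subsingleton_of_forall_eq 0 fun z => ?_
      rw [← Abelian.Ext.comp_mk₀_id z, hz.eq_of_src (𝟙 _) 0, Abelian.Ext.mk₀_zero, Abelian.Ext.comp_zero]
  have hbij : ∀ (r : ℤ) (n : ℕ), -(n : ℤ) ≤ r →
      Function.Bijective (fun z : sgl r M ⟶ CohCx.truncTower X (n + 1) => z ≫ CohCx.truncTowerMap X n) := by
    intro r n hn
    haveI := isIso_homology_truncTowerMap X n r hn
    have h : (cl : (sgl r M ⟶ CohCx.truncTower X n) → _) ∘
        (fun z : sgl r M ⟶ CohCx.truncTower X (n + 1) => z ≫ CohCx.truncTowerMap X n) =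
        ((asIso ((homologyFunctor A r).map (CohCx.truncTowerMap X n))).homToEquiv :
          (M ⟶ _) ≃ (M ⟶ _)) ∘ cl :=
      funext fun z => cl_comp z _
    exact (Function.Bijective.of_comp_iff' (hb n r) _).1
      (h ▸ (Equiv.bijective _).comp (hb (n + 1) r))
  have hbij' : ∀ n, N ≤ n → ∀ w : (sgl q M)⟦(1 : ℤ)⟧ ⟶ CohCx.truncTower X n,
      ∃ v, v ≫ CohCx.truncTowerMap X n = w := fun n hn w => by
    let e := sglShiftIso M (q - 1) q (by omega)
    obtain ⟨v, hv⟩ := (hbij (q - 1) n (by omega)).2 (e.inv ≫ w)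
    exact ⟨e.hom ≫ v, by rw [Category.assoc, show v ≫ CohCx.truncTowerMap X n = _ from hv,
      Iso.hom_inv_id_assoc]⟩
  haveI := DCohLib.isIso_homology_truncGEπ X (-(N : ℤ)) q (by omega)
  constructor
  · intro ξ ξ' h
    refine sub_eq_zero.1 (eq_zero_of_isRlimVia hX N (fun n hn z hz => ?_) hbij' _ ?_)
    · exact (hbij q n (by omega)).1 (hz.trans zero_comp.symm)
    · refine (hb N q).1 ?_
      rw [cl_comp, cl_sub, h, sub_self, zero_comp, cl_zero]
  · intro x
    obtain ⟨w, hw⟩ := (hb N q).2 (x ≫ (homologyFunctor A q).map (CohCx.toTruncTower X N))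
    obtain ⟨ξ, hξ⟩ := exists_lift_of_isRlimVia hX N
      (fun n hn w => (hbij q n (by omega)).2 w) w
    refine ⟨ξ, ?_⟩
    rw [← cancel_mono ((homologyFunctor A q).map (CohCx.toTruncTower X N)), ← cl_comp, hξ, hw]

end Rlim

end Groth.Agent.RlimCrit
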