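import Groth.Agent.RlimCrit.ClBij

/-!
# Morphisms from degree `0` to shifts
-/

set_option autoImplicit false
set_option linter.style.haveILetI false

universe w' w v u

open CategoryTheory CategoryTheory.Limits DerivedCategory Pretriangulated

noncomputable section

namespace Groth.Agent.RlimCrit

variable {A : Type u} [Category.{v} A] [Abelian A] [HasDerivedCategory.{w} A]

/-- Morphisms from degree `0` to `X⟦m⟧` are morphisms from degree `m` to `X`. -/
def hdu (M : A) (m : ℤ) (X : DerivedCategory A) :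
    (sgl m M ⟶ X) ≃+ ((singleFunctor A 0).obj M ⟶ X⟦m⟧) where
  toFun ξ := (((singleFunctors A).shiftIso m 0 m (by omega)).app M).inv ≫ ξ⟦m⟧'
  invFun z := (shiftFunctor (DerivedCategory A) m).preimage
    ((((singleFunctors A).shiftIso m 0 m (by omega)).app M).hom ≫ z)
  left_inv ξ := by
    refine (shiftFunctor (DerivedCategory A) m).map_injective ?_
    rw [Functor.map_preimage]
    exact Iso.hom_inv_id_assoc (((singleFunctors A).shiftIso m 0 m (by omega)).app M) _
  right_inv z := by
    show _ ≫ (shiftFunctor (DerivedCategory A) m).map ((shiftFunctor _ m).preimage _) = z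
    rw [Functor.map_preimage]
    exact Iso.inv_hom_id_assoc (((singleFunctors A).shiftIso m 0 m (by omega)).app M) _
  map_add' ξ ξ' := (congrArg (_ ≫ ·) (shiftFunctor (DerivedCategory A) m).map_add).trans
    (Preadditive.comp_add _ _ _ _ _ _)

theorem hdu_comp (M : A) (m : ℤ) {X Y : DerivedCategory A} (ξ : sgl m M ⟶ X) (g : X ⟶ Y) :
    hdu M m Y (ξ ≫ g) = hdu M m X ξ ≫ g⟦m⟧' := by
  show _ ≫ (shiftFunctor (DerivedCategory A) m).map (ξ ≫ g) = (_ ≫ ξ⟦m⟧') ≫ g⟦m⟧'
  rw [Functor.map_comp, Category.assoc]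

theorem hdu_symm_comp (M : A) (m : ℤ) {X Y : DerivedCategory A}
    (z : (singleFunctor A 0).obj M ⟶ X⟦m⟧) (g : X ⟶ Y) :
    (hdu M m Y).symm (z ≫ g⟦m⟧') = (hdu M m X).symm z ≫ g := by
  apply (hdu M m Y).injective
  rw [AddEquiv.apply_symm_apply, hdu_comp, AddEquiv.apply_symm_apply]

variable [HasExt.{w'} A]

/-- Extensions vanish when morphisms between objects placed in one degree do. -/
theorem subsingleton_ext_of_hom (M N : A) (k : ℕ)
    (h : Subsingleton (sgl (k : ℤ) M ⟶ (singleFunctor A 0).obj N)) :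
    Subsingleton (Abelian.Ext.{w'} M N k) := by
  haveI := h
  haveI : Subsingleton ((singleFunctor A 0).obj M ⟶ ((singleFunctor A 0).obj N)⟦(k : ℤ)⟧) :=
    (hdu M (k : ℤ) ((singleFunctor A 0).obj N)).symm.toEquiv.subsingleton
  exact (Abelian.Ext.homEquiv (C := A) (X := M) (Y := N) (n := k)).subsingleton

end Groth.Agent.RlimCrit
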