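import Groth.Agent.RlimCrit.Limit
import Groth.Agent.RlimCrit.ClBij
import Groth.Agent.RlimCrit.Shift
import Groth.Prelude.Def_DCoh2

/-!
# Limits of systems of acyclic objects are derived limits
-/

set_option autoImplicit false
set_option linter.style.haveILetI false

universe w w' v' u' v u

open CategoryTheory CategoryTheory.Limits Opposite DerivedCategory Pretriangulated

noncomputable section

namespace Groth.Agent.RlimCrit

/-- A limit of zero objects is zero. -/
theorem isZero_limit {I : Type*} [Category I] {A : Type*} [Category A] [HasZeroMorphisms A]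
    (F : I ⥤ A) [HasLimit F] (h : ∀ i, IsZero (F.obj i)) : IsZero (limit F) :=
  (IsZero.iff_id_eq_zero _).2 (limit.hom_ext fun i => (h i).eq_of_tgt _ _)

variable {C : Type u'} [Category.{v'} C] {J : GrothendieckTopology C}
  {A : Type (u + 1)} [Category.{u} A] [Abelian A] [HasDerivedCategory.{w} A] [HasExt.{w'} A]
  [HasLimitsOfShape ℕᵒᵖ A] {P : C ⥤ A} (hP : IsLocGen J P) (B : Set C)
  (hB : ∀ U : C, ∃ (ι : Type v') (Y : ι → C) (f : ∀ i, Y i ⟶ U),
    Sieve.ofArrows Y f ∈ J U ∧ ∀ i, Y i ∈ B)
  (F : ℕ → A) (t : ∀ n, F (n + 1) ⟶ F n)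
  [HasProduct fun n => (singleFunctor A 0).obj (F n)]
  (h1 : ∀ U ∈ B, ∀ (n k : ℕ), 0 < k → Subsingleton (Abelian.Ext.{w'} (P.obj U) (F n) k))
  (h2 : ∀ U ∈ B, ∀ η : ∀ n, P.obj U ⟶ F n, ∃ y : ∀ n, P.obj U ⟶ F n, ∀ n, y n - y (n + 1) ≫ t n = η n)

include hP hB h1 h2 in
/-- The limit of a system of objects without higher `Ext` from the generators and without `R¹ lim` of
sections is a derived limit, and is again acyclic. -/
theorem isRlim_limit :
    DCoh.IsRlim (fun n => (singleFunctor A 0).obj (F n)) (fun n => (singleFunctor A 0).map (t n))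
        ((singleFunctor A 0).obj (limit (Functor.ofOpSequence t))) ∧
      ∀ U ∈ B, ∀ k : ℕ, 0 < k →
        Subsingleton (Abelian.Ext.{w'} (P.obj U) (limit (Functor.ofOpSequence t)) k) := by
  let K : ℕ → DerivedCategory A := fun n => (singleFunctor A 0).obj (F n)
  let tK : ∀ n, K (n + 1) ⟶ K n := fun n => (singleFunctor A 0).map (t n)
  haveI : HasProduct K := inferInstanceAs (HasProduct fun n => (singleFunctor A 0).obj (F n))
  let e := singleFunctorCompHomologyFunctorIso A 0
  have hz : ∀ (n : ℕ) (r : ℤ), r ≠ 0 → IsZero ((homologyFunctor A r).obj (K n)) := fun n r hr => by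
    rcases lt_or_gt_of_ne hr with h | h
    · exact isZero_of_isGE (K n) 0 r h
    · exact isZero_of_isLE (K n) 0 r h
  have hcl : ∀ U ∈ B, ∀ (n : ℕ) (r : ℤ),
      Function.Bijective (cl : (sgl r (P.obj U) ⟶ K n) → _) := fun U hU n r => by
    refine cl_bijective_of_isGE.{w', w} (P.obj U) r (K n) 0 fun i k hk => ?_
    refine subsingleton_of_forall_eq 0 fun x => ?_
    rcases eq_or_ne i 0 with rfl | hi
    · haveI := h1 U hU n k hk
      let f : (homologyFunctor A 0).obj (K n) ≅ F n := e.app (F n)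
      have hx : (x.comp (Abelian.Ext.mk₀ f.hom) (add_zero _)).comp (Abelian.Ext.mk₀ f.inv) (add_zero _) = x := by
        simp
      rw [← hx, Subsingleton.elim (x.comp (Abelian.Ext.mk₀ f.hom) (add_zero _)) 0]
      simp
    · rw [← Abelian.Ext.comp_mk₀_id x, (hz n i hi).eq_of_src (𝟙 _) 0, Abelian.Ext.mk₀_zero,
        Abelian.Ext.comp_zero]
  have hlim : ∀ U ∈ B, ∀ (r : ℤ) (η : ∀ n, P.obj U ⟶ (homologyFunctor A r).obj (K n)),
      ∃ y : ∀ n, P.obj U ⟶ (homologyFunctor A r).obj (K n),
        ∀ n, y n - y (n + 1) ≫ (homologyFunctor A r).map (tK n) = η n := fun U hU r η => by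
    rcases eq_or_ne r 0 with rfl | hr
    · obtain ⟨y, hy⟩ := h2 U hU fun n => η n ≫ e.hom.app (F n)
      refine ⟨fun n => y n ≫ e.inv.app (F n), fun n => ?_⟩
      have hnat : e.inv.app (F (n + 1)) ≫ (homologyFunctor A 0).map (tK n) = t n ≫ e.inv.app (F n) :=
        (e.inv.naturality (t n)).symm
      calc _ = (y n - y (n + 1) ≫ t n) ≫ e.inv.app (F n) := by
            rw [Preadditive.sub_comp, Category.assoc, hnat, Category.assoc]
        _ = η n := by
            rw [hy, Category.assoc]
            exact (congrArg (η n ≫ ·) (e.hom_inv_id_app (F n))).trans (Category.comp_id _)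
    · exact ⟨fun n => 0, fun n => (hz n r hr).eq_of_tgt _ _⟩
  obtain ⟨L₁, g, h, hT⟩ := distinguished_cocone_triangle₁
    (Pi.lift fun n => Pi.π K n - Pi.π K (n + 1) ≫ tK n)
  let a : ∀ n, L₁ ⟶ K n := fun n => g ≫ Pi.π K n
  have ha : Pi.lift a = g := Pi.hom_ext _ _ fun n => Pi.lift_π _ _
  have hL : CohCx.IsRlimVia K tK L₁ a := ⟨h, by rw [ha]; exact hT⟩
  have hiso : ∀ r : ℤ, Nonempty ((homologyFunctor A r).obj L₁ ≅
      limit (Functor.ofOpSequence (X := fun n => (homologyFunctor A r).obj (K n))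
        fun n => (homologyFunctor A r).map (tK n))) := fun r => by
    let cone : Cone (Functor.ofOpSequence (X := fun n => (homologyFunctor A r).obj (K n))
        fun n => (homologyFunctor A r).map (tK n)) :=
      Cone.mk ((homologyFunctor A r).obj L₁)
        (NatTrans.ofOpSequence (fun n => (homologyFunctor A r).map (a n)) fun n => by
          refine (Category.id_comp _).trans ?_
          refine Eq.trans ?_ (congrArg ((homologyFunctor A r).map (a (n + 1)) ≫ ·)
            (Functor.ofOpSequence_map_homOfLE_succ _ n)).symm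
          exact ((congrArg (homologyFunctor A r).map (compat_of_isRlimVia hL n)).symm.trans
            ((homologyFunctor A r).map_comp _ _)))
    haveI : IsIso (limit.lift _ cone) := isIso_limit_lift hP B hB hL hcl hlim r (limit.cone _)
      (limit.isLimit _) _ fun n => limit.lift_π cone (op n)
    exact ⟨asIso (limit.lift _ cone)⟩
  have hz1 : ∀ r : ℤ, r ≠ 0 → IsZero ((homologyFunctor A r).obj L₁) := fun r hr => by
    obtain ⟨i⟩ := hiso r
    exact (isZero_limit _ fun n => hz n.unop r hr).of_iso i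
  haveI : L₁.IsLE 0 := (isLE_iff _ _).2 fun r hr => hz1 r (by omega)
  haveI : L₁.IsGE 0 := (isGE_iff _ _).2 fun r hr => hz1 r (by omega)
  obtain ⟨W, ⟨eW⟩⟩ := exists_iso_singleFunctor_obj_of_isGE_of_isLE L₁ 0
  obtain ⟨i0⟩ := hiso 0
  let iF : limit (Functor.ofOpSequence (X := fun n => (homologyFunctor A 0).obj (K n))
        fun n => (homologyFunctor A 0).map (tK n)) ≅ limit (Functor.ofOpSequence t) :=
    HasLimit.isoOfNatIso (NatIso.ofComponents (fun n => e.app (F n.unop)) (by
      intro p q f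
      obtain ⟨p⟩ := p
      obtain ⟨q⟩ := q
      exact (NatTrans.naturality (NatTrans.ofOpSequence
        (F := Functor.ofOpSequence (X := fun n => (homologyFunctor A 0).obj (K n))
          fun n => (homologyFunctor A 0).map (tK n))
        (G := Functor.ofOpSequence t) (fun n => e.hom.app (F n)) fun n => by
          refine (congrArg (· ≫ e.hom.app (F n)) (Functor.ofOpSequence_map_homOfLE_succ _ n)).trans ?_
          exact (e.hom.naturality (t n)).trans
            (congrArg (e.hom.app (F (n + 1)) ≫ ·) (Functor.ofOpSequence_map_homOfLE_succ t n).symm)) f)))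
  let E : L₁ ≅ (singleFunctor A 0).obj (limit (Functor.ofOpSequence t)) :=
    eW ≪≫ (singleFunctor A 0).mapIso
      ((e.app W).symm ≪≫ (homologyFunctor A 0).mapIso eW.symm ≪≫ i0 ≪≫ iF)
  refine ⟨⟨E.inv ≫ g, h ≫ E.hom⟦(1 : ℤ)⟧', ?_⟩, fun U hU k hk => ?_⟩
  · refine isomorphic_distinguished _ hT _ (Triangle.isoMk _ _ E.symm (Iso.refl _) (Iso.refl _) ?_ ?_ ?_)
    · exact Category.comp_id _
    · exact (Category.comp_id _).trans (Category.id_comp _).symm
    · exact (Category.assoc _ _ _).trans
        ((congrArg (h ≫ ·) ((Functor.map_comp _ _ _).symm.trans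
          ((congrArg _ E.hom_inv_id).trans (CategoryTheory.Functor.map_id _ _)))).trans
            ((Category.comp_id _).trans (Category.id_comp _).symm))
  · refine subsingleton_ext_of_hom _ _ k ?_
    refine subsingleton_of_forall_eq 0 fun ξ => ?_
    have h0 : ξ ≫ E.inv = 0 := eq_zero_of_cl B hL hcl hlim hU (k : ℤ) _ fun n => by
      rw [(hz1 (k : ℤ) (by omega)).eq_of_tgt (cl (ξ ≫ E.inv)) 0, zero_comp]
    exact (cancel_mono E.inv).1 (h0.trans zero_comp.symm)

end Groth.Agent.RlimCrit
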