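import Groth.Agent.RlimCrit.Limit
import Groth.Agent.RlimCrit.SingleLimit
import Groth.Agent.RlimCrit.ClBij
import Groth.Agent.RlimCrit.Sites
import Groth.Agent.TildeD.Adj
import Groth.Prelude.Def_DCoh2

/-!
# Derived limits of abelian sheaves with acyclic cohomology sheaves
-/

set_option autoImplicit false
set_option linter.style.haveILetI false

universe w u

open CategoryTheory CategoryTheory.Limits Opposite DerivedCategory

noncomputable section

namespace Groth.Agent.RlimCrit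

variable {C : Type u} [SmallCategory C] {J : GrothendieckTopology C}
  [HasDerivedCategory.{w} (Sheaf J AddCommGrpCat.{u})]

theorem hasProducts_ab : HasProductsOfShape ℕ (DerivedCategory (Sheaf J AddCommGrpCat.{u})) :=
  TildeD.hasProductsOfShape_derived (KInj.hres_of_isGrothendieckAbelian _) ℕ

theorem abSec_add' (U : C) {M : Sheaf J AddCommGrpCat.{u}} (x y : (abP J).obj U ⟶ M) :
    abSec U M (x + y) = abSec U M x + abSec U M y := by
  have hs : biprod.lift x y ≫ (biprod.fst + biprod.snd) = x + y := by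
    rw [Preadditive.comp_add, biprod.lift_fst, biprod.lift_snd]
  have h1 := abSec_comp U (biprod.lift x y) (biprod.fst : M ⊞ M ⟶ M)
  have h2 := abSec_comp U (biprod.lift x y) (biprod.snd : M ⊞ M ⟶ M)
  rw [biprod.lift_fst] at h1
  rw [biprod.lift_snd] at h2
  rw [← hs, abSec_comp, h1, h2]
  rfl

/-- `abSec` as an additive equivalence. -/
def abSecAdd (U : C) (M : Sheaf J AddCommGrpCat.{u}) : ((abP J).obj U ⟶ M) ≃+ M.obj.obj (op U) :=
  AddEquiv.mk' (abSec U M) (abSec_add' U)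

/-- Vanishing of `R¹ lim` of sections. -/
theorem limOne_sections {U : C} (F : ℕ → Sheaf J AddCommGrpCat.{u}) (t : ∀ n, F (n + 1) ⟶ F n)
    (h : CohCx.LimOneIsZero (fun n => (F n).obj.obj (op U)) (fun n => ((t n).hom.app (op U)).hom))
    (η : ∀ n, (abP J).obj U ⟶ F n) :
    ∃ y : ∀ n, (abP J).obj U ⟶ F n, ∀ n, y n - y (n + 1) ≫ t n = η n := by
  obtain ⟨a, ha⟩ := h fun n => abSecAdd U (F n) (η n)
  refine ⟨fun n => (abSecAdd U (F n)).symm (a n), fun n => (abSecAdd U (F n)).injective ?_⟩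
  rw [map_sub, AddEquiv.apply_symm_apply]
  refine Eq.trans ?_ (congrFun ha n)
  congr 1
  exact (abSec_comp U _ _).trans (congrArg _ ((abSecAdd U (F (n + 1))).apply_symm_apply _))

variable (B : Set C)
  (hB : ∀ U : C, ∃ (ι : Type u) (Y : ι → C) (f : ∀ i, Y i ⟶ U), Sieve.ofArrows Y f ∈ J U ∧ ∀ i, Y i ∈ B)

include hB in
/-- Sections over acyclic objects compute hypercohomology. -/
theorem cl_bijective_ab (X : DerivedCategory (Sheaf J AddCommGrpCat.{u}))
    (h1 : ∀ U ∈ B, ∀ (p : ℕ) (q : ℤ), Subsingleton (CohSite.HU (CohCx.HD X q) (p + 1) U))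
    {U : C} (hU : U ∈ B) (r : ℤ) :
    Function.Bijective (cl : (sgl r ((abP J).obj U) ⟶ X) → _) := by
  haveI := hasProducts_ab (J := J)
  haveI : HasProduct (CohCx.truncTower X) := inferInstance
  refine cl_bijective _ r X (isRlimVia_ab X B hB fun q W _ T hT => ?_) fun i k hk => ?_
  · obtain ⟨ι, Y, f, hS, hf⟩ := exists_family_le B hB (T (-q).toNat) (hT _)
    refine ⟨ι, Y, f, hS, fun i => ⟨(-q).toNat, (hf i).1, fun n hn k hk => ?_⟩⟩
    obtain ⟨k, rfl⟩ : ∃ k', k = k' + 1 := ⟨k - 1, by omega⟩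
    exact h1 (Y i) (hf i).2 k _
  · obtain ⟨k, rfl⟩ : ∃ k', k = k' + 1 := ⟨k - 1, by omega⟩
    exact h1 U hU k i

include hB in
/-- Cohomology sheaves of a derived limit of a system with acyclic cohomology sheaves. -/
theorem nonempty_iso_limit {K : ℕ → DerivedCategory (Sheaf J AddCommGrpCat.{u})}
    {t : ∀ n, K (n + 1) ⟶ K n} [HasProduct K]
    {L : DerivedCategory (Sheaf J AddCommGrpCat.{u})} (hL : DCoh.IsRlim K t L)
    (h1 : ∀ U ∈ B, ∀ (p : ℕ) (q : ℤ) (n : ℕ), Subsingleton (CohSite.HU (CohCx.HD (K n) q) (p + 1) U))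
    (h2 : ∀ U ∈ B, ∀ (q : ℤ), CohCx.LimOneIsZero (fun n => (CohCx.HD (K n) q).obj.obj (op U))
      (fun n => (((homologyFunctor _ q).map (t n)).hom.app (op U)).hom))
    (q : ℤ) :
    Nonempty (CohCx.HD L q ≅ limit (CohCx.opSequence (fun n => CohCx.HD (K n) q)
      (fun n => (homologyFunctor _ q).map (t n)))) := by
  obtain ⟨A, c, hc⟩ := hL
  have hA : Pi.lift (fun n => A ≫ Pi.π K n) = A :=
    Pi.hom_ext _ _ fun n => Pi.lift_π _ _
  have hV : CohCx.IsRlimVia K t L (fun n => A ≫ Pi.π K n) := ⟨c, by rw [hA]; exact hc⟩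
  let H := homologyFunctor (Sheaf J AddCommGrpCat.{u}) q
  let cone : Cone (CohCx.opSequence (fun n => CohCx.HD (K n) q) (fun n => H.map (t n))) :=
    Cone.mk (H.obj L) (NatTrans.ofOpSequence (fun n => H.map (A ≫ Pi.π K n)) fun n => by
      refine (Category.id_comp _).trans ?_
      refine Eq.trans ?_ (congrArg (H.map (A ≫ Pi.π K (n + 1)) ≫ ·)
        (Functor.ofOpSequence_map_homOfLE_succ _ n)).symm
      exact ((congrArg H.map (compat_of_isRlimVia hV n)).symm.trans (H.map_comp _ _)))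
  haveI : IsIso (limit.lift _ cone) := isIso_limit_lift isLocGen_ab B hB hV
    (fun U hU n r => cl_bijective_ab B hB (K n) (fun V hV' p i => h1 V hV' p i n) hU r)
    (fun U hU r η => limOne_sections (fun n => CohCx.HD (K n) r)
      (fun n => (homologyFunctor _ r).map (t n)) (h2 U hU r) η)
    q (limit.cone _) (limit.isLimit _) _ fun n => limit.lift_π cone (op n)
  exact ⟨asIso (limit.lift _ cone)⟩

include hB in
/-- The limit of a system of acyclic sheaves without `R¹ lim` of sections. -/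
theorem isRlim_limit_ab (F : ℕ → Sheaf J AddCommGrpCat.{u}) (t : ∀ n, F (n + 1) ⟶ F n)
    [HasProduct fun n => (singleFunctor (Sheaf J AddCommGrpCat.{u}) 0).obj (F n)]
    (h1 : ∀ U ∈ B, ∀ (p n : ℕ), Subsingleton (CohSite.HU (F n) (p + 1) U))
    (h2 : ∀ U ∈ B, CohCx.LimOneIsZero (fun n => (F n).obj.obj (op U))
      (fun n => ((t n).hom.app (op U)).hom)) :
    DCoh.IsRlim (fun n => (singleFunctor _ 0).obj (F n)) (fun n => (singleFunctor _ 0).map (t n))
        ((singleFunctor _ 0).obj (limit (CohCx.opSequence F t))) ∧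
      ∀ U ∈ B, ∀ p : ℕ, Subsingleton (CohSite.HU (limit (CohCx.opSequence F t)) (p + 1) U) := by
  obtain ⟨h, h'⟩ := isRlim_limit isLocGen_ab B hB F t
    (fun U hU n k hk => by
      obtain ⟨k, rfl⟩ : ∃ k', k = k' + 1 := ⟨k - 1, by omega⟩
      exact h1 U hU k n)
    (fun U hU η => limOne_sections F t (h2 U hU) η)
  exact ⟨h, fun U hU p => h' U hU (p + 1) p.succ_pos⟩

section Top

open TopologicalSpace

/-- A basis covers every open. -/
theorem exists_cover_of_isBasis {X : TopCat.{u}} {B : Set (Opens X)} (hB : Opens.IsBasis B)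
    (U : Opens X) : ∃ (ι : Type u) (Y : ι → Opens X) (f : ∀ i, Y i ⟶ U),
      Sieve.ofArrows Y f ∈ Opens.grothendieckTopology X U ∧ ∀ i, Y i ∈ B := by
  refine ⟨{W : Opens X // W ∈ B ∧ W ≤ U}, fun W => W.1, fun W => homOfLE W.2.2, ?_, fun W => W.2.1⟩
  intro x hx
  obtain ⟨W, hW, hxW, hWU⟩ := Opens.isBasis_iff_nbhd.1 hB hx
  exact ⟨W, homOfLE hWU, Sieve.ofArrows_mk (fun W : {W : Opens X // W ∈ B ∧ W ≤ U} => W.1)
    (fun W => homOfLE W.2.2) ⟨W, hW, hWU⟩, hxW⟩

end Top

end Groth.Agent.RlimCrit
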