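import Groth.Agent.RlimCrit.Criterion
import Groth.Agent.SiteBase.ModCoh
import Groth.Prelude.Def_ModSite

/-!
# Free sheaves on the objects of a site detect sections
-/

set_option autoImplicit false
set_option linter.style.haveILetI false

universe u v' u' v u₁ v₂ u₂

open CategoryTheory CategoryTheory.Limits Opposite

noncomputable section

namespace Groth.Agent.RlimCrit

/-- Transfer along a faithful functor preserving epimorphisms. -/
theorem IsLocGen.of_faithful {C : Type u'} [Category.{v'} C] {J : GrothendieckTopology C}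
    {A : Type u₁} [Category.{v} A] [Abelian A] {A' : Type u₂} [Category.{v₂} A'] [Abelian A']
    (G : A ⥤ A') [G.Additive] [G.PreservesEpimorphisms] [G.Faithful] {P : C ⥤ A} {P' : C ⥤ A'}
    (hP' : IsLocGen J P') (η : P' ⟶ P ⋙ G)
    (hη : ∀ (U : C) (M : A), Function.Bijective fun φ : P.obj U ⟶ M => η.app U ≫ G.map φ) :
    IsLocGen J P where
  lift {M N} e _ {U} x := by
    obtain ⟨S, hS, h⟩ := hP'.lift (G.map e) (η.app U ≫ G.map x)
    refine ⟨S, hS, fun V f hf => ?_⟩
    obtain ⟨y', hy'⟩ := h f hf
    obtain ⟨y, rfl⟩ := (hη V M).2 y'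
    refine ⟨y, (hη V N).1 ?_⟩
    have n := η.naturality f
    show η.app V ≫ G.map (y ≫ e) = η.app V ≫ G.map (P.map f ≫ x)
    rw [G.map_comp, G.map_comp, ← Category.assoc]
    refine hy'.trans ?_
    exact (Category.assoc _ _ _).symm.trans ((congrArg (· ≫ G.map x) n).trans (Category.assoc _ _ _))
  sep {M U} x S hS h := by
    refine (hη U M).1 ?_
    show η.app U ≫ G.map x = η.app U ≫ G.map 0
    rw [G.map_zero, comp_zero]
    refine hP'.sep _ S hS fun V f hf => ?_
    refine (Category.assoc _ _ _).symm.trans ((congrArg (· ≫ G.map x) (η.naturality f)).trans ?_)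
    refine (Category.assoc _ _ _).trans ?_
    show η.app V ≫ G.map (P.map f) ≫ G.map x = 0
    rw [← G.map_comp, h f hf, G.map_zero, comp_zero]
  det {M N} k h := by
    refine G.map_injective ?_
    rw [G.map_zero]
    refine hP'.det _ fun U x' => ?_
    obtain ⟨x, rfl⟩ := (hη U M).2 x'
    show (η.app U ≫ G.map x) ≫ G.map k = 0
    rw [Category.assoc, ← G.map_comp, h U x, G.map_zero, comp_zero]

section Ab

variable {C : Type u} [SmallCategory C] (J : GrothendieckTopology C)

/-- The free abelian sheaves on presheaves of sets. -/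
abbrev abFreeAdj :=
  (AddCommGrpCat.adj.{u}.whiskerRight Cᵒᵖ).comp (sheafificationAdjunction J AddCommGrpCat.{u})

/-- The free abelian sheaf on an object, as a functor. -/
abbrev abP : C ⥤ Sheaf J AddCommGrpCat.{u} :=
  yoneda ⋙ (Functor.whiskeringRight _ _ _).obj AddCommGrpCat.free.{u} ⋙
    presheafToSheaf J AddCommGrpCat.{u}

variable {J}

/-- Sections of an abelian sheaf are morphisms out of free sheaves on objects. -/
def abSec (U : C) (M : Sheaf J AddCommGrpCat.{u}) : ((abP J).obj U ⟶ M) ≃ M.obj.obj (op U) :=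
  ((abFreeAdj J).homEquiv (yoneda.obj U) M).trans (yonedaEquiv (F := M.obj ⋙ forget AddCommGrpCat))

theorem abSec_comp (U : C) {M N : Sheaf J AddCommGrpCat.{u}} (x : (abP J).obj U ⟶ M) (e : M ⟶ N) :
    abSec U N (x ≫ e) = e.hom.app (op U) (abSec U M x) := by
  simp only [abSec, Equiv.trans_apply]
  erw [Adjunction.homEquiv_naturality_right, yonedaEquiv_comp]

theorem abSec_map {U V : C} (f : V ⟶ U) (M : Sheaf J AddCommGrpCat.{u}) (x : (abP J).obj U ⟶ M) :
    abSec V M ((abP J).map f ≫ x) = M.obj.map f.op (abSec U M x) := by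
  simp only [abSec, Equiv.trans_apply]
  erw [Adjunction.homEquiv_naturality_left]
  exact (yonedaEquiv_naturality ((abFreeAdj J).homEquiv (yoneda.obj U) M x) f).symm

theorem abSec_zero (U : C) (M : Sheaf J AddCommGrpCat.{u}) : abSec U M 0 = 0 := by
  have h := abSec_comp U (0 : (abP J).obj U ⟶ M) (0 : M ⟶ M)
  rw [comp_zero] at h
  exact h.trans rfl

theorem isLocGen_ab : IsLocGen J (abP J) where
  lift {M N} e _ {U} x := by
    haveI : Sheaf.IsLocallySurjective e :=
      (Sheaf.isLocallySurjective_iff_epi' AddCommGrpCat.{u} e).2 ‹_›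
    refine ⟨_, Presheaf.imageSieve_mem J e.hom (U := op U) (abSec U N x), fun V f hf => ?_⟩
    obtain ⟨s, hs⟩ := hf
    refine ⟨(abSec V M).symm s, (abSec V N).injective ?_⟩
    rw [abSec_comp, Equiv.apply_symm_apply, abSec_map]
    exact hs
  sep {M U} x S hS h := by
    refine (abSec U M).injective ?_
    rw [abSec_zero]
    refine ((isSheaf_iff_isSheaf_of_type _ _).1
      ((sheafCompose J (forget AddCommGrpCat.{u})).obj M).property S hS).isSeparatedFor.ext
        fun V f hf => ?_
    show M.obj.map f.op (abSec U M x) = M.obj.map f.op 0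
    rw [← abSec_map, h f hf, abSec_zero, map_zero]
  det {M N} k h := by
    refine Sheaf.hom_ext ?_
    ext U s
    obtain ⟨x, hx⟩ := (abSec U.unop M).surjective s
    have := congrArg (abSec U.unop N) (h U.unop x)
    rw [abSec_comp, hx, abSec_zero] at this
    exact this

end Ab

section Mod

variable {C : Type u} [SmallCategory C] {J : GrothendieckTopology C} (R : Sheaf J RingCat.{u})

/-- The free modules on presheaves of sets. -/
abbrev modFreeAdj :=
  (PresheafOfModules.freeAdjunction R.obj).comp
    (PresheafOfModules.sheafificationAdjunction (𝟙 R.obj))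

/-- The free sheaf of modules on an object, as a functor. -/
abbrev modP : C ⥤ SheafOfModules.{u} R :=
  yoneda ⋙ PresheafOfModules.free R.obj ⋙ PresheafOfModules.sheafification (𝟙 R.obj)

/-- The map from free abelian sheaves to free sheaves of modules. -/
def modEta : abP J ⟶ modP R ⋙ SheafOfModules.toSheaf R where
  app U := ((abFreeAdj J).homEquiv (yoneda.obj U) _).symm ((modFreeAdj R).unit.app (yoneda.obj U))
  naturality U V f := by
    apply ((abFreeAdj J).homEquiv _ _).injective
    refine ((abFreeAdj J).homEquiv_naturality_left (yoneda.map f) _).trans (Eq.trans ?_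
      ((abFreeAdj J).homEquiv_naturality_right _ _).symm)
    refine (congrArg (yoneda.map f ≫ ·) (Equiv.apply_symm_apply _ _)).trans (Eq.trans ?_
      (congrArg (· ≫ _) (Equiv.apply_symm_apply _ _).symm))
    exact (modFreeAdj R).unit.naturality (yoneda.map f)

theorem modEta_bijective (U : C) (M : SheafOfModules.{u} R) :
    Function.Bijective fun φ : (modP R).obj U ⟶ M =>
      (modEta R).app U ≫ (SheafOfModules.toSheaf R).map φ := by
  have h : ∀ φ : (modP R).obj U ⟶ M, (abFreeAdj J).homEquiv (yoneda.obj U) _
      ((modEta R).app U ≫ (SheafOfModules.toSheaf R).map φ) =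
        (modFreeAdj R).homEquiv (yoneda.obj U) M φ := fun φ => by
    erw [Adjunction.homEquiv_naturality_right, Equiv.apply_symm_apply]
    rw [Adjunction.homEquiv_unit]
    rfl
  constructor
  · intro φ ψ e
    exact ((modFreeAdj R).homEquiv _ M).injective
      ((h φ).symm.trans ((congrArg ((abFreeAdj J).homEquiv _ _) e).trans (h ψ)))
  · intro x
    exact ⟨((modFreeAdj R).homEquiv _ M).symm ((abFreeAdj J).homEquiv (yoneda.obj U) _ x),
      ((abFreeAdj J).homEquiv _ _).injective ((h _).trans (Equiv.apply_symm_apply _ _))⟩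

theorem isLocGen_mod : IsLocGen J (modP R) :=
  haveI : PreservesColimitsOfShape WalkingSpan (SheafOfModules.toSheaf R) :=
    (SiteBase.preservesFiniteColimits_toSheaf R).preservesFiniteColimits _
  haveI : (SheafOfModules.toSheaf R).PreservesEpimorphisms :=
    preservesEpimorphisms_of_preservesColimitsOfShape _
  IsLocGen.of_faithful (SheafOfModules.toSheaf R) isLocGen_ab (modEta R) (modEta_bijective R)

/-- Vanishing of cohomology gives vanishing of extensions out of free modules on objects. -/
theorem subsingleton_ext_mod [HasExt.{u} (SheafOfModules.{u} R)] (U : C) (F : SheafOfModules.{u} R)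
    (k : ℕ) (h : Subsingleton (CohSite.HU ((SheafOfModules.toSheaf R).obj F) k U)) :
    Subsingleton (Abelian.Ext.{u} ((modP R).obj U) F k) := by
  have e := SiteBase.extUnitEquiv (G := SheafOfModules.toSheaf R) (X := (abP J).obj U)
    ((modEta R).app U) (modEta_bijective R U) (fun I _ m => by
      haveI : Subsingleton (CohCx.HK (SiteBase.shYoneda J U) ((SheafOfModules.toSheaf R).obj I) (m + 1)) :=
        SiteBase.isTotallyAcyclic_toSheaf_injective I (SiteBase.shYoneda J U) m
      exact (SiteBase.HKYonedaEquiv ((SheafOfModules.toSheaf R).obj I) (m + 1) U).toEquiv.subsingleton)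
    F k
  haveI : Subsingleton (Abelian.Ext.{u} ((abP J).obj U) ((SheafOfModules.toSheaf R).obj F) k) := h
  exact e.toEquiv.subsingleton

end Mod

end Groth.Agent.RlimCrit
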