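import Groth.Agent.RlimCrit.Shift
import Groth.Agent.RlimCrit.Local
import Groth.Agent.RlimCrit.Bounded
import Groth.Agent.RlimCrit.Instances

/-!
# Hypercohomology of derived limits
-/

set_option autoImplicit false
set_option linter.style.haveILetI false

universe w v' u' v u

open CategoryTheory CategoryTheory.Limits DerivedCategory Pretriangulated Opposite

noncomputable section

namespace Groth.Agent.RlimCrit

variable {A : Type u} [Category.{v} A] [Abelian A] [HasDerivedCategory.{w} A]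
  {K : ℕ → DerivedCategory A} {t : ∀ n, K (n + 1) ⟶ K n} [HasProduct K]
  {L : DerivedCategory A} {a : ∀ n, L ⟶ K n}

/-- Compatible classes lift to the derived limit. -/
theorem exists_lift_hdu (hL : CohCx.IsRlimVia K t L a) (M : A) (m : ℤ)
    (x : ∀ n, (singleFunctor A 0).obj M ⟶ (K n)⟦m⟧) (hx : ∀ n, x (n + 1) ≫ (t n)⟦m⟧' = x n) :
    ∃ y : (singleFunctor A 0).obj M ⟶ L⟦m⟧, ∀ n, y ≫ (a n)⟦m⟧' = x n := by
  obtain ⟨ξ, hξ⟩ := exists_lift_of_compat hL (fun n => (hdu M m (K n)).symm (x n)) fun n => by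
    rw [← hdu_symm_comp, hx]
  exact ⟨hdu M m L ξ, fun n => by rw [← hdu_comp, hξ, AddEquiv.apply_symm_apply]⟩

/-- Classes with zero components vanish when `R¹ lim` of the classes in the degree below vanishes. -/
theorem eq_zero_of_limOne_hdu (hL : CohCx.IsRlimVia K t L a) (M : A) (m : ℤ)
    (h : ∀ η : ∀ n, (singleFunctor A 0).obj M ⟶ (K n)⟦m - 1⟧,
      ∃ y : ∀ n, (singleFunctor A 0).obj M ⟶ (K n)⟦m - 1⟧,
        ∀ n, y n - y (n + 1) ≫ (t n)⟦m - 1⟧' = η n)
    (ξ : sgl m M ⟶ L) (h0 : ∀ n, ξ ≫ a n = 0) : ξ = 0 := by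
  refine eq_zero_of_limOne hL (fun η => ?_) ξ h0
  let e := sglShiftIso M (m - 1) m (by omega)
  obtain ⟨y, hy⟩ := h fun n => hdu M (m - 1) (K n) (e.inv ≫ η n)
  refine ⟨fun n => e.hom ≫ (hdu M (m - 1) (K n)).symm (y n), fun n => ?_⟩
  rw [Category.assoc, ← hdu_symm_comp, ← Preadditive.comp_sub, ← map_sub, hy,
    AddEquiv.symm_apply_apply, Iso.hom_inv_id_assoc]

/-- The component in a later index determines the earlier ones. -/
theorem comp_transition (hL : CohCx.IsRlimVia K t L a) (N : ℕ) :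
    ∀ k, a (N + k) ≫ CohCx.transition K t N k = a N
  | 0 => Category.comp_id _
  | k + 1 => by
    show a (N + k + 1) ≫ t (N + k) ≫ CohCx.transition K t N k = a N
    rw [← Category.assoc, compat_of_isRlimVia hL, comp_transition hL N k]

/-- Classes are detected by one component when the transition maps to it are injective. -/
theorem eq_zero_of_injective (hL : CohCx.IsRlimVia K t L a) (M : A) (m : ℤ) (N : ℕ)
    (h : ∀ η : ∀ n, (singleFunctor A 0).obj M ⟶ (K n)⟦m - 1⟧,
      ∃ y : ∀ n, (singleFunctor A 0).obj M ⟶ (K n)⟦m - 1⟧,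
        ∀ n, y n - y (n + 1) ≫ (t n)⟦m - 1⟧' = η n)
    (hinj : ∀ k, ∀ z : (singleFunctor A 0).obj M ⟶ (K (N + k))⟦m⟧,
      z ≫ (CohCx.transition K t N k)⟦m⟧' = 0 → z = 0)
    (ξ : sgl m M ⟶ L) (h0 : ξ ≫ a N = 0) : ξ = 0 := by
  refine eq_zero_of_limOne_hdu hL M m h ξ fun n => ?_
  have hge : ∀ n, N ≤ n → ξ ≫ a n = 0 := fun n hn => by
    obtain ⟨k, rfl⟩ := Nat.exists_eq_add_of_le hn
    refine (hdu M m (K (N + k))).injective ?_
    rw [map_zero]
    refine hinj k _ ?_
    rw [← hdu_comp, Category.assoc, comp_transition hL, h0, map_zero]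
  rcases Nat.le_total N n with hn | hn
  · exact hge n hn
  · induction hn using Nat.decreasingInduction with
    | self => exact h0
    | of_succ k _ ih => rw [← compat_of_isRlimVia hL k, ← Category.assoc, ih, zero_comp]

variable {C : Type u'} [Category.{v'} C] {J : GrothendieckTopology C} {P : C ⥤ A}

omit [HasProduct K] in
/-- A section of `H^m` with zero image comes locally from classes with zero image. -/
theorem exists_local_class_comp_zero (hP : IsLocGen J P) {m : ℤ} {X Y : DerivedCategory A}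
    (g : X ⟶ Y) {V : C} (x : P.obj V ⟶ (homologyFunctor A m).obj X)
    (hx : x ≫ (homologyFunctor A m).map g = 0) :
    ∃ T ∈ J V, ∀ ⦃W : C⦄ (f : W ⟶ V), T.arrows f →
      ∃ ζ : sgl m (P.obj W) ⟶ X, cl ζ = P.map f ≫ x ∧ ζ ≫ g = 0 := by
  obtain ⟨S, hS, hl⟩ := exists_local_class hP x
  choose ξ hξ using fun W (f : W ⟶ V) (hf : S.arrows f) => hl f hf
  choose R hR hz using fun W (f : W ⟶ V) (hf : S.arrows f) =>
    exists_local_zero hP (ξ W f hf ≫ g) (by rw [cl_comp, hξ, Category.assoc, hx, comp_zero])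
  refine ⟨Sieve.bind S.arrows fun W f hf => R W f hf, J.bind_covering hS fun W f hf => hR W f hf, ?_⟩
  rintro Z _ ⟨W, r, f, hf, hr, rfl⟩
  refine ⟨sglMap m (P.map r) ≫ ξ W f hf, ?_, ?_⟩
  · rw [cl_map, hξ, P.map_comp, Category.assoc]
  · rw [Category.assoc, hz W f hf r hr]

end Groth.Agent.RlimCrit
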