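import Groth.Agent.RlimCrit.AbLimit
import Groth.Agent.RlimCrit.Shift
import Groth.Agent.RlimCrit.Sections

/-!
# The sheaf associated to hypercohomology
-/

set_option autoImplicit false
set_option linter.style.haveILetI false

universe u

open CategoryTheory CategoryTheory.Limits Opposite DerivedCategory

noncomputable section

namespace Groth.Agent.RlimCrit

variable {C : Type u} [SmallCategory C] {J : GrothendieckTopology C}
  [HasDerivedCategory.{u} (Sheaf J AddCommGrpCat.{u})]

theorem hdu_map {A : Type*} [Category A] [Abelian A] [HasDerivedCategory.{u} A] {M M' : A} (a : M' ⟶ M)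
    (m : ℤ) (X : DerivedCategory A) (ξ : sgl m M ⟶ X) :
    hdu M' m X (sglMap m a ≫ ξ) = (singleFunctor A 0).map a ≫ hdu M m X ξ := by
  show _ ≫ (shiftFunctor (DerivedCategory A) m).map (sglMap m a ≫ ξ) = _ ≫ _ ≫ _
  rw [Functor.map_comp, ← Category.assoc, ← Category.assoc]
  congr 1
  exact (((singleFunctors A).shiftIso m 0 m (by omega)).inv.naturality a).symm

/-- The class in `H^q` of a hypercohomology class. -/
def hduClass (K : DerivedCategory (Sheaf J AddCommGrpCat.{u})) (q : ℤ) (U : C) :
    CohCx.HDU K q U →+ (CohCx.HD K q).obj.obj (op U) :=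
  (abSecAdd U (CohCx.HD K q)).toAddMonoidHom.comp
    ((AddMonoidHom.mk' cl fun x y => by simp only [cl, Functor.map_add, Preadditive.comp_add]).comp
      (hdu ((abP J).obj U) q K).symm.toAddMonoidHom)

theorem hduClass_res (K : DerivedCategory (Sheaf J AddCommGrpCat.{u})) (q : ℤ) {U V : C} (f : V ⟶ U)
    (z : CohCx.HDU K q U) :
    hduClass K q V ((singleFunctor (Sheaf J AddCommGrpCat.{u}) 0).map ((abP J).map f) ≫ z) =
      (CohCx.HD K q).obj.map f.op (hduClass K q U z) := by
  have h : (hdu ((abP J).obj V) q K).symm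
      ((singleFunctor (Sheaf J AddCommGrpCat.{u}) 0).map ((abP J).map f) ≫ z) =
        sglMap q ((abP J).map f) ≫ (hdu ((abP J).obj U) q K).symm z := by
    apply (hdu ((abP J).obj V) q K).injective
    rw [AddEquiv.apply_symm_apply, hdu_map, AddEquiv.apply_symm_apply]
  show abSec V _ (cl _) = _
  refine (congrArg (abSec V _) ((congrArg cl h).trans (cl_map _ _))).trans (abSec_map f _ _)

/-- The comparison of presheaves. -/
def hduToHD (K : DerivedCategory (Sheaf J AddCommGrpCat.{u})) (q : ℤ) :
    CohCx.HDUPresheaf K q ⟶ (CohCx.HD K q).obj where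
  app U := AddCommGrpCat.ofHom (hduClass K q U.unop)
  naturality U V g := AddCommGrpCat.hom_ext (AddMonoidHom.ext fun z => hduClass_res K q g.unop z)

theorem nonempty_sheafify_HDU_iso (K : DerivedCategory (Sheaf J AddCommGrpCat.{u})) (q : ℤ) :
    Nonempty ((presheafToSheaf J AddCommGrpCat.{u}).obj (CohCx.HDUPresheaf K q) ≅ CohCx.HD K q) := by
  haveI : Presheaf.IsLocallySurjective J (hduToHD K q) := ⟨fun {U} s => by
    obtain ⟨S, hS, h⟩ := exists_local_class (isLocGen_ab (J := J)) (q := q) (X := K)
      ((abSec U (CohCx.HD K q)).symm s)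
    refine J.superset_covering (fun V f hf => ?_) hS
    obtain ⟨ξ, hξ⟩ := h f hf
    refine ⟨hdu ((abP J).obj V) q K ξ, ?_⟩
    show abSec V _ (cl ((hdu ((abP J).obj V) q K).symm (hdu _ q K ξ))) = _
    rw [AddEquiv.symm_apply_apply, hξ, abSec_map, Equiv.apply_symm_apply]⟩
  haveI : Presheaf.IsLocallyInjective J (hduToHD K q) := ⟨fun {U} x y hxy => by
    have h0 : cl ((hdu ((abP J).obj U.unop) q K).symm (x - y)) = 0 := by
      refine (abSec U.unop (CohCx.HD K q)).injective ?_
      rw [abSec_zero]
      exact (map_sub (hduClass K q U.unop) x y).trans (sub_eq_zero.2 hxy)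
    obtain ⟨S, hS, h⟩ := exists_local_zero (isLocGen_ab (J := J)) _ h0
    refine J.superset_covering (fun V f hf => ?_) hS
    show (singleFunctor _ 0).map ((abP J).map f) ≫ x = (singleFunctor _ 0).map ((abP J).map f) ≫ y
    refine sub_eq_zero.1 ((Preadditive.comp_sub _ _ _).symm.trans ?_)
    have h1 := congrArg (hdu ((abP J).obj V) q K) (h f hf)
    rw [hdu_map, AddEquiv.apply_symm_apply, map_zero] at h1
    exact h1⟩
  have hW : J.W (hduToHD K q) := J.W_of_isLocallyBijective _
  haveI : IsIso ((presheafToSheaf J AddCommGrpCat.{u}).map (hduToHD K q)) := (J.W_iff _).1 hW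
  exact ⟨asIso ((presheafToSheaf J AddCommGrpCat.{u}).map (hduToHD K q)) ≪≫
    (asIso (sheafificationAdjunction J AddCommGrpCat.{u}).counit).app _⟩

end Groth.Agent.RlimCrit
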