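import Mathlib
import Groth.Prelude.Def_CohCx

/-!
# Morphisms into derived limits of eventually well behaved towers
-/

set_option autoImplicit false
set_option linter.style.haveILetI false

universe v u w

open CategoryTheory CategoryTheory.Limits Pretriangulated

noncomputable section

namespace Groth.Agent.RlimCrit

/-- A tower with eventually surjective transition maps has compatible families through any term. -/
theorem exists_compat (N : ℕ) : ∀ {X : ℕ → Type w} (r : ∀ n, X (n + 1) → X n),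
    (∀ n, N ≤ n → Function.Surjective (r n)) → ∀ w : X N,
    ∃ x : ∀ n, X n, (∀ n, r n (x (n + 1)) = x n) ∧ x N = w := by
  induction N with
  | zero =>
    intro X r hr w
    refine ⟨fun n => Nat.rec (motive := X) w (fun m z => (hr m (Nat.zero_le m) z).choose) n,
      fun n => (hr n (Nat.zero_le n) _).choose_spec, rfl⟩
  | succ N ih =>
    intro X r hr w
    obtain ⟨x, hx, hxN⟩ := ih (X := fun n => X (n + 1)) (fun n => r (n + 1))
      (fun n hn => hr (n + 1) (by omega)) w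
    exact ⟨fun n => Nat.casesOn n (r 0 (x 0)) x, fun n => Nat.casesOn n rfl hx, hxN⟩

/-- A tower with eventually surjective transition maps has vanishing `R¹ lim`. -/
theorem exists_sub_eq (N : ℕ) : ∀ {X : ℕ → Type w} [∀ n, AddCommGroup (X n)]
    (r : ∀ n, X (n + 1) →+ X n), (∀ n, N ≤ n → Function.Surjective (r n)) → ∀ η : ∀ n, X n,
    ∃ y : ∀ n, X n, ∀ n, y n - r n (y (n + 1)) = η n := by
  induction N with
  | zero =>
    intro X _ r hr η
    let y : ∀ n, X n := fun n =>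
      Nat.rec (motive := X) 0 (fun m z => (hr m (Nat.zero_le m) (z - η m)).choose) n
    refine ⟨y, fun n => ?_⟩
    have h : r n (y (n + 1)) = y n - η n := (hr n (Nat.zero_le n) (y n - η n)).choose_spec
    rw [h]
    abel
  | succ N ih =>
    intro X _ r hr η
    obtain ⟨y, hy⟩ := ih (X := fun n => X (n + 1)) (fun n => r (n + 1))
      (fun n hn => hr (n + 1) (by omega)) (fun n => η (n + 1))
    refine ⟨fun n => Nat.casesOn n (η 0 + r 0 (y 0)) y, fun n => Nat.casesOn n ?_ hy⟩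
    show η 0 + r 0 (y 0) - r 0 (y 0) = η 0
    abel

variable {T : Type u} [Category.{v} T] [Preadditive T] [HasZeroObject T] [HasShift T ℤ]
  [∀ n : ℤ, (shiftFunctor T n).Additive] [Pretriangulated T]
  {K : ℕ → T} {t : ∀ n, K (n + 1) ⟶ K n} [HasProduct K] {L : T} {a : ∀ n, L ⟶ K n}

theorem compat_of_isRlimVia (hL : CohCx.IsRlimVia K t L a) (n : ℕ) : a (n + 1) ≫ t n = a n := by
  obtain ⟨c, hc⟩ := hL
  have h : (Pi.lift a ≫ Pi.lift fun n => Pi.π K n - Pi.π K (n + 1) ≫ t n) ≫ Pi.π K n = 0 :=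
    (congrArg (· ≫ Pi.π K n) (comp_distTriang_mor_zero₁₂ _ hc)).trans zero_comp
  rw [Category.assoc, Pi.lift_π, Preadditive.comp_sub, Pi.lift_π, Pi.lift_π_assoc, sub_eq_zero] at h
  exact h.symm

/-- A morphism into a derived limit is detected by a component beyond which the transition maps are
injective on the source and surjective on its suspension. -/
theorem eq_zero_of_isRlimVia (hL : CohCx.IsRlimVia K t L a) {Z : T} (N : ℕ)
    (hinj : ∀ n, N ≤ n → ∀ z : Z ⟶ K (n + 1), z ≫ t n = 0 → z = 0)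
    (hsurj : ∀ n, N ≤ n → ∀ w : Z⟦(1 : ℤ)⟧ ⟶ K n, ∃ v, v ≫ t n = w)
    (ξ : Z ⟶ L) (h : ξ ≫ a N = 0) : ξ = 0 := by
  have hcompat := compat_of_isRlimVia hL
  have hge : ∀ n, N ≤ n → ξ ≫ a n = 0 := by
    intro n hn
    induction n, hn using Nat.le_induction with
    | base => exact h
    | succ n hn ih => exact hinj n hn _ (by rw [Category.assoc, hcompat]; exact ih)
  have hall : ∀ n, ξ ≫ a n = 0 := fun n => by
    rcases Nat.le_total N n with hn | hn
    · exact hge n hn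
    · induction hn using Nat.decreasingInduction with
      | self => exact h
      | of_succ k _ ih => rw [← hcompat k, ← Category.assoc, ih, zero_comp]
  obtain ⟨c, hc⟩ := hL
  let σ : ∏ᶜ K ⟶ ∏ᶜ K := Pi.lift fun n => Pi.π K n - Pi.π K (n + 1) ≫ t n
  have h0 : ξ ≫ Pi.lift a = 0 :=
    Pi.hom_ext _ _ fun n => by rw [Category.assoc, Pi.lift_π, hall n, zero_comp]
  obtain ⟨g, hg⟩ : ∃ g : Z⟦(1 : ℤ)⟧ ⟶ ∏ᶜ K, ξ⟦(1 : ℤ)⟧' = g ≫ c :=
    Triangle.coyoneda_exact₁ _ hc (ξ⟦(1 : ℤ)⟧') (by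
    exact (Functor.map_comp _ _ _).symm.trans
      ((congrArg (fun z => z⟦(1 : ℤ)⟧') h0).trans (Functor.map_zero _ _ _)))
  obtain ⟨y, hy⟩ := exists_sub_eq N (X := fun n => Z⟦(1 : ℤ)⟧ ⟶ K n)
    (fun n => Preadditive.rightComp _ (t n))
    (fun n hn w => hsurj n hn w) (fun n => g ≫ Pi.π K n)
  have hgy : g = Pi.lift y ≫ σ := Pi.hom_ext _ _ fun n => by
    rw [Category.assoc, Pi.lift_π, Preadditive.comp_sub, Pi.lift_π, Pi.lift_π_assoc]
    exact (hy n).symm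
  refine (shiftFunctor T (1 : ℤ)).map_injective ?_
  have hc23 : σ ≫ c = 0 := comp_distTriang_mor_zero₂₃ _ hc
  rw [hg, Functor.map_zero, hgy, Category.assoc, hc23, comp_zero]

/-- A morphism into a term lifts to the derived limit if the later transition maps are surjective. -/
theorem exists_lift_of_isRlimVia (hL : CohCx.IsRlimVia K t L a) {Z : T} (N : ℕ)
    (hsurj : ∀ n, N ≤ n → ∀ w : Z ⟶ K n, ∃ v, v ≫ t n = w) (w : Z ⟶ K N) :
    ∃ ξ : Z ⟶ L, ξ ≫ a N = w := by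
  obtain ⟨c, hc⟩ := hL
  obtain ⟨x, hx, hxN⟩ := exists_compat N (X := fun n => Z ⟶ K n) (fun n v => v ≫ t n)
    (fun n hn w => hsurj n hn w) w
  obtain ⟨ξ, hξ⟩ := Triangle.coyoneda_exact₂ _ hc (Pi.lift x) (Pi.hom_ext _ _ fun n => by
    show (Pi.lift x ≫ Pi.lift fun n => Pi.π K n - Pi.π K (n + 1) ≫ t n) ≫ Pi.π K n = _
    rw [Category.assoc, Pi.lift_π, Preadditive.comp_sub, Pi.lift_π, Pi.lift_π_assoc]
    exact (sub_eq_zero.2 (hx n).symm).trans zero_comp.symm)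
  refine ⟨ξ, ?_⟩
  have h2 := congrArg (· ≫ Pi.π K N) hξ
  have h3 : Pi.lift x ≫ Pi.π K N = (ξ ≫ Pi.lift a) ≫ Pi.π K N := h2
  rw [Category.assoc, Pi.lift_π, Pi.lift_π, hxN] at h3
  exact h3.symm

/-- Compatible families lift to the derived limit. -/
theorem exists_lift_of_compat (hL : CohCx.IsRlimVia K t L a) {Z : T} (x : ∀ n, Z ⟶ K n)
    (hx : ∀ n, x (n + 1) ≫ t n = x n) : ∃ ξ : Z ⟶ L, ∀ n, ξ ≫ a n = x n := by
  obtain ⟨c, hc⟩ := hL
  obtain ⟨ξ, hξ⟩ := Triangle.coyoneda_exact₂ _ hc (Pi.lift x) (Pi.hom_ext _ _ fun n => by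
    show (Pi.lift x ≫ Pi.lift fun n => Pi.π K n - Pi.π K (n + 1) ≫ t n) ≫ Pi.π K n = _
    rw [Category.assoc, Pi.lift_π, Preadditive.comp_sub, Pi.lift_π, Pi.lift_π_assoc]
    exact (sub_eq_zero.2 (hx n).symm).trans zero_comp.symm)
  refine ⟨ξ, fun n => ?_⟩
  have h3 : Pi.lift x ≫ Pi.π K n = (ξ ≫ Pi.lift a) ≫ Pi.π K n := congrArg (· ≫ Pi.π K n) hξ
  rw [Category.assoc, Pi.lift_π, Pi.lift_π] at h3
  exact h3.symm

/-- When `R¹ lim` of the morphisms from the suspension vanishes, morphisms into the derived limit are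
detected by their components. -/
theorem eq_zero_of_limOne (hL : CohCx.IsRlimVia K t L a) {Z : T}
    (h1 : ∀ η : ∀ n, Z⟦(1 : ℤ)⟧ ⟶ K n, ∃ y : ∀ n, Z⟦(1 : ℤ)⟧ ⟶ K n,
      ∀ n, y n - y (n + 1) ≫ t n = η n)
    (ξ : Z ⟶ L) (hall : ∀ n, ξ ≫ a n = 0) : ξ = 0 := by
  obtain ⟨c, hc⟩ := hL
  let σ : ∏ᶜ K ⟶ ∏ᶜ K := Pi.lift fun n => Pi.π K n - Pi.π K (n + 1) ≫ t n
  have h0 : ξ ≫ Pi.lift a = 0 :=
    Pi.hom_ext _ _ fun n => by rw [Category.assoc, Pi.lift_π, hall n, zero_comp]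
  obtain ⟨g, hg⟩ : ∃ g : Z⟦(1 : ℤ)⟧ ⟶ ∏ᶜ K, ξ⟦(1 : ℤ)⟧' = g ≫ c :=
    Triangle.coyoneda_exact₁ _ hc (ξ⟦(1 : ℤ)⟧') (by
      exact (Functor.map_comp _ _ _).symm.trans
        ((congrArg (fun z => z⟦(1 : ℤ)⟧') h0).trans (Functor.map_zero _ _ _)))
  obtain ⟨y, hy⟩ := h1 fun n => g ≫ Pi.π K n
  have hgy : g = Pi.lift y ≫ σ := Pi.hom_ext _ _ fun n => by
    rw [Category.assoc, Pi.lift_π, Preadditive.comp_sub, Pi.lift_π, Pi.lift_π_assoc]
    exact (hy n).symm
  refine (shiftFunctor T (1 : ℤ)).map_injective ?_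
  have hc23 : σ ≫ c = 0 := comp_distTriang_mor_zero₂₃ _ hc
  rw [hg, Functor.map_zero, hgy, Category.assoc, hc23, comp_zero]

end Groth.Agent.RlimCrit
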