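import Groth.Agent.RlimCrit.SingleLimit
import Groth.Agent.RlimCrit.ModVanish
import Groth.Agent.CohBase.Affine
import Groth.Agent.QCohLib.Exact
import Groth.Agent.ModTensor.Sheaf
import Groth.Agent.OpenRestrH.Scheme

/-!
# Limits of quasi-coherent systems with surjective transition maps
-/

set_option autoImplicit false
set_option linter.style.haveILetI false

universe w u

open CategoryTheory CategoryTheory.Limits Opposite AlgebraicGeometry DerivedCategory

noncomputable section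

namespace Groth.Agent.RlimCrit

variable {X : Scheme.{u}}

theorem affine_cover (U : X.Opens) : ∃ (ι : Type u) (Y : ι → X.Opens) (f : ∀ i, Y i ⟶ U),
    Sieve.ofArrows Y f ∈ Opens.grothendieckTopology X U ∧ ∀ i, Y i ∈ X.affineOpens := by
  refine ⟨{W : X.Opens // IsAffineOpen W ∧ W ≤ U}, fun W => W.1, fun W => homOfLE W.2.2, ?_,
    fun W => W.2.1⟩
  intro x hx
  obtain ⟨W, hW, hxW, hWU⟩ := TopologicalSpace.Opens.isBasis_iff_nbhd.1 X.isBasis_affineOpens hx
  exact ⟨W, homOfLE hWU, Sieve.ofArrows_mk (fun W : {W : X.Opens // IsAffineOpen W ∧ W ≤ U} => W.1)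
    (fun W => homOfLE W.2.2) ⟨W, hW, hWU⟩, hxW⟩

variable [HasExt.{u} (SheafOfModules.{u} X.ringCatSheaf)]

theorem subsingleton_ext_qcoh (M : X.Modules) [Coh.IsQCoh M] {U : X.Opens} (hU : IsAffineOpen U)
    (k : ℕ) : Subsingleton (Abelian.Ext.{u} ((modP X.ringCatSheaf).obj U) M (k + 1)) :=
  subsingleton_ext_mod X.ringCatSheaf U M (k + 1) (CohBase.affine_vanishing (X := X) M hU k)

/-- Over an affine open, epimorphisms of quasi-coherent modules are surjective. -/
theorem exists_lift_qcoh {M N : SheafOfModules.{u} X.ringCatSheaf} (φ : M ⟶ N) [Epi φ]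
    (hM : Coh.IsQCoh (X := X) M) (hN : Coh.IsQCoh (X := X) N) {U : X.Opens} (hU : IsAffineOpen U) (x : (modP X.ringCatSheaf).obj U ⟶ N) :
    ∃ y : (modP X.ringCatSheaf).obj U ⟶ M, y ≫ φ = x := by
  let S : ShortComplex (SheafOfModules.{u} X.ringCatSheaf) :=
    ShortComplex.mk (kernel.ι φ) φ (kernel.condition _)
  have hS : S.ShortExact := ShortComplex.ShortExact.mk'
    (ShortComplex.exact_of_f_is_kernel _ (kernelIsKernel _)) inferInstance ‹_›
  haveI : Coh.IsQCoh (X := X) (kernel φ) := (QCohLib.isQCoh_image (X := X) φ hM hN).1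
  haveI : Subsingleton (Abelian.Ext.{u} ((modP X.ringCatSheaf).obj U) S.X₁ 1) :=
    subsingleton_ext_qcoh (X := X) (kernel φ) hU 0
  obtain ⟨y, hy⟩ := Abelian.Ext.covariant_sequence_exact₃ _ hS (Abelian.Ext.mk₀ x) (zero_add 1)
    (Subsingleton.elim _ _)
  obtain ⟨y, rfl⟩ := (Abelian.Ext.mk₀_bijective _ _).2 y
  rw [Abelian.Ext.mk₀_comp_mk₀] at hy
  exact ⟨y, (Abelian.Ext.mk₀_bijective _ _).1 hy⟩

variable [HasDerivedCategory.{w} (SheafOfModules.{u} X.ringCatSheaf)]
  [HasLimitsOfShape ℕᵒᵖ (SheafOfModules.{u} X.ringCatSheaf)]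

theorem isRlim_limit_qcoh (F : ℕ → SheafOfModules.{u} X.ringCatSheaf)
    (hF : ∀ n, Coh.IsQCoh (X := X) (F n)) (t : ∀ n, F (n + 1) ⟶ F n) (ht : ∀ n, 1 ≤ n → Epi (t n))
    [HasProduct fun n => (singleFunctor (SheafOfModules.{u} X.ringCatSheaf) 0).obj (F n)] :
    DCoh.IsRlim (fun n => (singleFunctor (SheafOfModules.{u} X.ringCatSheaf) 0).obj (F n))
      (fun n => (singleFunctor (SheafOfModules.{u} X.ringCatSheaf) 0).map (t n))
        ((singleFunctor (SheafOfModules.{u} X.ringCatSheaf) 0).obj (limit (Functor.ofOpSequence t))) ∧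
      ∀ U : X.Opens, IsAffineOpen U → ∀ p : ℕ, 0 < p →
        Subsingleton (Coh.HHon X (limit (Functor.ofOpSequence t)) U p) := by
  have h := isRlim_limit (isLocGen_mod X.ringCatSheaf) X.affineOpens affine_cover F t
    (fun U hU n k hk => by
      obtain ⟨k, rfl⟩ : ∃ k', k = k' + 1 := ⟨k - 1, by omega⟩
      haveI := hF n
      exact subsingleton_ext_qcoh (X := X) (F n) hU k)
    (fun U hU η => exists_sub_eq 1 (X := fun n => (modP X.ringCatSheaf).obj U ⟶ F n)
      (fun n => Preadditive.rightComp _ (t n))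
      (fun n hn x => by
        haveI := ht n hn
        exact exists_lift_qcoh (X := X) (t n) (hF (n + 1)) (hF n) hU x) η)
  refine ⟨h.1, fun U hU p hp => OpenRestrH.subsingleton_HHon X _ U p ?_⟩
  exact subsingleton_HU_of_ext_mod X.ringCatSheaf U _ p (h.2 U hU p hp)

end Groth.Agent.RlimCrit
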