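import Groth.Agent.RlimCrit.AbLimit
import Groth.Agent.RlimCrit.Shift

/-!
# Hypercohomology on objects with acyclic cohomology sheaves
-/

set_option autoImplicit false
set_option linter.style.haveILetI false

universe w u

open CategoryTheory CategoryTheory.Limits Opposite DerivedCategory

noncomputable section

namespace Groth.Agent.RlimCrit

variable {C : Type u} [SmallCategory C] {J : GrothendieckTopology C}
  [HasDerivedCategory.{w} (Sheaf J AddCommGrpCat.{u})]

/-- On acyclic objects hypercohomology is given by sections of cohomology sheaves. -/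
theorem nonempty_HDU_equiv (B : Set C)
    (hB : ∀ U : C, ∃ (ι : Type u) (Y : ι → C) (f : ∀ i, Y i ⟶ U), Sieve.ofArrows Y f ∈ J U ∧ ∀ i, Y i ∈ B)
    (K : DerivedCategory (Sheaf J AddCommGrpCat.{u}))
    (h : ∀ U ∈ B, ∀ (p : ℕ) (q : ℤ), Subsingleton (CohSite.HU (CohCx.HD K q) (p + 1) U))
    {U : C} (hU : U ∈ B) (q : ℤ) :
    Nonempty (CohCx.HDU K q U ≃+ (CohCx.HD K q).obj.obj (op U)) := by
  let e₁ : CohCx.HDU K q U ≃+ (sgl q ((abP J).obj U) ⟶ K) := (hdu ((abP J).obj U) q K).symm
  let e₂ : (sgl q ((abP J).obj U) ⟶ K) ≃+ ((abP J).obj U ⟶ CohCx.HD K q) :=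
    AddEquiv.ofBijective (AddMonoidHom.mk' cl fun x y => by
      simp only [cl, Functor.map_add, Preadditive.comp_add]) (cl_bijective_ab B hB K h hU q)
  exact ⟨(e₁.trans e₂).trans (abSecAdd U _)⟩

end Groth.Agent.RlimCrit
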