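import Groth.Agent.RlimCrit.Shift
import Groth.Agent.RlimCrit.Local

/-!
# Cohomology objects of derived limits with acyclic cohomology
-/

set_option autoImplicit false
set_option linter.style.haveILetI false

universe w v' u' v u

open CategoryTheory CategoryTheory.Limits DerivedCategory Pretriangulated

noncomputable section

namespace Groth.Agent.RlimCrit

variable {C : Type u'} [Category.{v'} C] {J : GrothendieckTopology C}
  {A : Type u} [Category.{v} A] [Abelian A] [HasDerivedCategory.{w} A] {P : C ⥤ A}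
  (hP : IsLocGen J P) (B : Set C)
  (hB : ∀ U : C, ∃ (ι : Type v') (Y : ι → C) (f : ∀ i, Y i ⟶ U),
    Sieve.ofArrows Y f ∈ J U ∧ ∀ i, Y i ∈ B)
  {K : ℕ → DerivedCategory A} {t : ∀ n, K (n + 1) ⟶ K n} [HasProduct K]
  {L : DerivedCategory A} {a : ∀ n, L ⟶ K n} (hL : CohCx.IsRlimVia K t L a)
  (hcl : ∀ U ∈ B, ∀ (n : ℕ) (r : ℤ), Function.Bijective (cl : (sgl r (P.obj U) ⟶ K n) → _))
  (hlim : ∀ U ∈ B, ∀ (r : ℤ) (η : ∀ n, P.obj U ⟶ (homologyFunctor A r).obj (K n)),
    ∃ y : ∀ n, P.obj U ⟶ (homologyFunctor A r).obj (K n),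
      ∀ n, y n - y (n + 1) ≫ (homologyFunctor A r).map (t n) = η n)

omit [HasProduct K] in
include hcl hlim in
theorem limOne_hom {U : C} (hU : U ∈ B) (q : ℤ) (η : ∀ n, (sgl q (P.obj U))⟦(1 : ℤ)⟧ ⟶ K n) :
    ∃ y : ∀ n, (sgl q (P.obj U))⟦(1 : ℤ)⟧ ⟶ K n, ∀ n, y n - y (n + 1) ≫ t n = η n := by
  let e := sglShiftIso (P.obj U) (q - 1) q (by omega)
  obtain ⟨y, hy⟩ := hlim U hU (q - 1) fun n => cl (e.inv ≫ η n)
  choose z hz using fun n => (hcl U hU n (q - 1)).2 (y n)
  refine ⟨fun n => e.hom ≫ z n, fun n => ?_⟩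
  have h : z n - z (n + 1) ≫ t n = e.inv ≫ η n :=
    (hcl U hU n (q - 1)).1 (by rw [cl_sub, cl_comp, hz, hz, hy])
  rw [Category.assoc, ← Preadditive.comp_sub, h, Iso.hom_inv_id_assoc]

include hL hcl hlim in
/-- A class in degree `q` of the derived limit is zero if all its images are zero on cohomology. -/
theorem eq_zero_of_cl {U : C} (hU : U ∈ B) (q : ℤ) (ξ : sgl q (P.obj U) ⟶ L)
    (h : ∀ n, cl ξ ≫ (homologyFunctor A q).map (a n) = 0) : ξ = 0 := by
  refine eq_zero_of_limOne hL (limOne_hom B hcl hlim hU q) ξ fun n => (hcl U hU n q).1 ?_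
  rw [cl_comp, h n, cl_zero]

include hL hcl in
theorem exists_class {U : C} (hU : U ∈ B) (q : ℤ) (y : ∀ n, P.obj U ⟶ (homologyFunctor A q).obj (K n))
    (hy : ∀ n, y (n + 1) ≫ (homologyFunctor A q).map (t n) = y n) :
    ∃ ξ : sgl q (P.obj U) ⟶ L, ∀ n, cl ξ ≫ (homologyFunctor A q).map (a n) = y n := by
  choose z hz using fun n => (hcl U hU n q).2 (y n)
  obtain ⟨ξ, hξ⟩ := exists_lift_of_compat hL z fun n =>
    (hcl U hU n q).1 (by rw [cl_comp, hz, hz, hy])
  exact ⟨ξ, fun n => by rw [← cl_comp, hξ, hz]⟩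

include hP hB hL hcl hlim in
/-- The cohomology of the derived limit is the limit of the cohomology. -/
theorem isIso_limit_lift (q : ℤ) (c : Cone (Functor.ofOpSequence (X := fun n => (homologyFunctor A q).obj (K n))
      fun n => (homologyFunctor A q).map (t n)))
    (hc : IsLimit c) (φ : (homologyFunctor A q).obj L ⟶ c.pt)
    (hφ : ∀ n, φ ≫ c.π.app (Opposite.op n) = (homologyFunctor A q).map (a n)) : IsIso φ := by
  haveI : Mono φ := by
    refine Preadditive.mono_of_cancel_zero _ fun {M} k hk => hP.det k fun U x => ?_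
    obtain ⟨S, hS, hl⟩ := exists_local_class hP (x ≫ k)
    refine hP.sep _ S hS fun V f hf => ?_
    obtain ⟨ξ, hξ⟩ := hl f hf
    obtain ⟨ι, W, g, hg, hW⟩ := hB V
    refine hP.sep_family _ W g hg fun i => ?_
    have h0 : sglMap q (P.map (g i)) ≫ ξ = 0 := eq_zero_of_cl B hL hcl hlim (hW i) q _ fun n => by
      have e : k ≫ (homologyFunctor A q).map (a n) = 0 :=
        (congrArg (k ≫ ·) (hφ n)).symm.trans ((Category.assoc _ _ _).symm.trans
          ((congrArg (· ≫ c.π.app (Opposite.op n)) hk).trans zero_comp))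
      rw [cl_map, hξ]
      simp only [Category.assoc, e, comp_zero]
    have h2 := congrArg cl h0
    rw [cl_map, cl_zero, hξ] at h2
    exact h2
  haveI : Epi φ := by
    refine Preadditive.epi_of_cancel_zero _ fun {M} k hk => hP.det k fun U y => ?_
    obtain ⟨ι, W, g, hg, hW⟩ := hB U
    refine hP.sep_family _ W g hg fun i => ?_
    obtain ⟨ξ, hξ⟩ := exists_class B hL hcl (hW i) q (fun n => P.map (g i) ≫ y ≫ c.π.app (Opposite.op n))
      fun n => by
        have h := c.w (homOfLE (Nat.le_succ n)).op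
        rw [Functor.ofOpSequence_map_homOfLE_succ] at h
        simp only [Category.assoc]
        exact congrArg (fun z => P.map (g i) ≫ y ≫ z) h
    have h2 : cl ξ ≫ φ = P.map (g i) ≫ y := hc.hom_ext fun ⟨n⟩ => by
      exact (Category.assoc _ _ _).trans ((congrArg (cl ξ ≫ ·) (hφ n)).trans
        ((hξ n).trans (Category.assoc _ _ _).symm))
    rw [← Category.assoc, ← h2, Category.assoc, hk, comp_zero]
  exact isIso_of_mono_of_epi φ

end Groth.Agent.RlimCrit
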